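import Mathlib.Data.List.Range

/-!
# The 126 pairs of short vectors and the isotropic points of the unitary plane over 25 elements
-/

set_option autoImplicit false

namespace Cfsg.Agent.HS352

/-- One short vector of each of the 126 pairs. -/
def pairReps : List (List Int) := [
  [0,0,0,0,0,0,0,0,0,2,2,0,2,0,0,2,0,2,0,2,0,0,2,2],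
  [0,0,0,0,0,0,0,0,2,0,0,2,0,0,0,0,0,2,2,2,2,0,2,2],
  [0,0,0,0,0,0,0,2,0,0,2,0,0,0,0,0,2,2,2,2,0,2,0,2],
  [0,0,0,0,0,0,0,2,0,2,2,0,0,0,2,0,0,0,2,0,2,0,2,2],
  [0,0,0,0,0,0,0,2,2,0,2,0,0,2,0,2,0,2,0,0,2,0,0,2],
  [0,0,0,0,0,0,2,0,0,2,0,0,0,0,0,2,2,2,2,0,2,0,0,2],
  [0,0,0,0,0,0,2,0,2,0,0,0,0,2,2,0,2,0,0,0,2,0,2,2],
  [0,0,0,0,0,0,2,0,2,0,2,2,2,0,0,0,2,2,0,0,0,0,0,2],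
  [0,0,0,0,0,0,2,0,2,2,0,0,0,2,0,0,0,2,0,2,0,2,0,2],
  [0,0,0,0,0,0,2,2,0,0,0,0,2,0,0,0,0,2,0,0,2,2,2,2],
  [0,0,0,0,0,0,2,2,0,2,0,0,2,0,2,0,2,0,0,2,0,0,0,2],
  [0,0,0,0,0,2,0,0,0,2,0,0,0,2,0,0,2,0,2,2,0,0,2,2],
  [0,0,0,0,0,2,0,0,2,0,0,0,0,0,2,2,2,2,0,2,0,0,0,2],
  [0,0,0,0,0,2,0,0,2,2,0,0,0,0,0,2,0,0,0,0,2,2,2,2],
  [0,0,0,0,0,2,0,2,0,2,2,2,0,0,0,2,2,0,0,0,0,0,0,2],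
  [0,0,0,0,0,2,0,2,2,0,0,0,2,0,0,0,2,0,2,0,2,0,0,2],
  [0,0,0,0,0,2,2,0,0,0,0,2,0,0,0,0,2,0,0,2,2,2,0,2],
  [0,0,0,0,0,2,2,0,0,2,0,2,0,0,2,0,0,2,0,0,0,0,2,2],
  [0,0,0,0,0,2,2,0,0,2,2,0,2,2,0,0,0,0,0,0,2,0,0,2],
  [0,0,0,0,2,0,0,0,0,0,0,0,2,2,0,0,2,2,0,2,2,0,0,2],
  [0,0,0,0,2,0,0,0,0,0,2,2,0,0,2,0,2,0,0,2,0,0,2,2],
  [0,0,0,0,2,0,0,0,0,2,2,2,0,0,0,0,0,2,0,0,2,2,0,2],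
  [0,0,0,0,2,0,0,2,2,0,0,0,0,0,2,0,0,0,0,2,2,2,0,2],
  [0,0,0,0,2,0,2,0,0,0,2,0,0,2,0,0,0,2,2,0,0,0,2,2],
  [0,0,0,0,2,0,2,0,2,2,2,0,0,0,2,2,0,0,0,0,0,0,0,2],
  [0,0,0,0,2,0,2,2,0,0,0,2,0,0,0,2,0,2,0,2,0,0,0,2],
  [0,0,0,0,2,2,0,0,0,0,2,0,0,0,0,2,0,0,2,2,2,0,0,2],
  [0,0,0,0,2,2,0,0,2,0,2,0,0,2,0,0,2,0,0,0,0,2,0,2],
  [0,0,0,0,2,2,0,0,2,2,0,2,2,0,0,0,0,0,0,2,0,0,0,2],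
  [0,0,0,0,2,2,0,2,0,0,0,2,0,2,0,0,0,0,0,0,2,0,2,2],
  [0,0,0,0,2,2,0,2,0,0,2,0,2,0,2,0,0,2,0,0,0,0,0,2],
  [0,0,0,0,2,2,2,0,0,0,0,0,2,0,0,2,2,0,0,0,0,0,2,2],
  [0,0,0,0,2,2,2,2,0,2,0,0,0,0,0,0,0,0,2,0,0,2,0,2],
  [0,0,0,2,0,0,0,0,2,0,2,0,0,0,2,0,0,2,0,0,0,2,2,2],
  [0,0,0,2,0,0,0,2,0,0,0,2,0,0,2,0,2,2,0,0,2,0,0,2],
  [0,0,0,2,0,0,0,2,0,0,2,0,2,2,0,0,2,0,0,0,0,0,2,2],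
  [0,0,0,2,0,0,0,2,0,2,0,2,0,0,0,0,0,0,0,2,0,2,2,2],
  [0,0,0,2,0,0,2,0,0,0,2,2,0,0,0,2,0,0,0,0,2,0,2,2],
  [0,0,0,2,0,0,2,0,2,2,0,0,2,0,0,0,0,0,2,0,0,0,2,2],
  [0,0,0,2,0,0,2,2,0,0,0,0,0,2,0,0,0,0,2,2,2,0,0,2],
  [0,0,0,2,0,0,2,2,2,0,0,0,0,0,0,2,2,0,0,0,0,2,0,2],
  [0,0,0,2,0,2,0,0,0,0,0,0,2,0,2,0,0,0,0,2,2,0,2,2],
  [0,0,0,2,0,2,0,0,0,0,2,2,0,2,0,0,0,2,0,2,0,0,0,2],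
  [0,0,0,2,0,2,0,0,0,2,0,0,2,0,0,0,2,2,0,0,0,2,0,2],
  [0,0,0,2,0,2,0,2,0,0,0,0,0,0,0,2,0,2,2,0,0,0,2,2],
  [0,0,0,2,0,2,0,2,2,2,0,0,0,2,2,0,0,0,0,0,0,0,0,2],
  [0,0,0,2,0,2,2,0,0,0,2,0,0,0,2,0,2,0,2,0,0,0,0,2],
  [0,0,0,2,2,0,0,0,0,0,0,0,0,0,0,0,2,0,2,0,2,2,2,2],
  [0,0,0,2,2,0,0,0,0,2,0,0,0,0,2,0,0,2,2,2,0,0,0,2],
  [0,0,0,2,2,0,0,0,2,0,0,0,0,2,0,2,0,0,0,2,0,0,2,2],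
  [0,0,0,2,2,0,0,2,0,2,0,0,2,0,0,2,0,0,0,0,2,0,0,2],
  [0,0,0,2,2,0,0,2,2,0,2,2,0,0,0,0,0,0,2,0,0,0,0,2],
  [0,0,0,2,2,0,2,0,0,0,2,0,2,0,0,0,0,0,0,2,0,2,0,2],
  [0,0,0,2,2,0,2,0,0,2,0,2,0,2,0,0,2,0,0,0,0,0,0,2],
  [0,0,2,0,0,0,0,0,2,0,0,0,2,0,0,0,2,0,0,2,0,2,2,2],
  [0,0,2,0,0,0,0,0,2,2,0,0,2,0,2,0,0,2,0,0,2,0,0,2],
  [0,0,2,0,0,0,0,0,2,2,2,2,0,2,0,0,0,0,0,0,0,0,2,2],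
  [0,0,2,0,0,0,0,2,0,0,0,0,0,2,2,0,0,2,0,2,0,0,2,2],
  [0,0,2,0,0,0,0,2,0,0,2,2,2,0,0,0,0,0,0,2,2,0,0,2],
  [0,0,2,0,0,0,0,2,0,2,0,0,0,2,0,0,2,0,0,0,2,2,0,2],
  [0,0,2,0,0,0,0,2,2,2,0,0,0,0,0,2,0,0,2,2,0,0,0,2],
  [0,0,2,0,0,0,2,0,0,0,2,0,0,2,0,2,2,0,0,2,0,0,0,2],
  [0,0,2,0,0,0,2,0,2,0,2,0,0,0,0,0,0,0,2,0,2,2,0,2],
  [0,0,2,0,0,0,2,2,0,0,0,2,0,0,0,0,2,0,2,0,0,0,2,2],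
  [0,0,2,0,0,2,0,0,0,2,2,0,0,0,2,0,0,0,0,2,0,2,0,2],
  [0,0,2,0,0,2,0,2,2,0,0,2,0,0,0,0,0,2,0,0,0,2,0,2],
  [0,0,2,0,0,2,2,0,0,0,0,0,2,0,0,0,0,2,2,2,0,0,0,2],
  [0,0,2,0,0,2,2,2,0,0,0,0,0,0,2,2,0,0,0,0,2,0,0,2],
  [0,0,2,0,2,0,0,0,0,2,2,0,2,0,0,0,2,0,2,0,0,0,0,2],
  [0,0,2,0,2,0,0,0,2,0,0,2,0,0,0,2,2,0,0,0,2,0,0,2],
  [0,0,2,0,2,0,0,2,0,0,2,0,0,0,0,2,0,0,0,0,0,2,2,2],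
  [0,0,2,0,2,0,2,0,0,0,0,0,0,0,2,0,2,2,0,0,0,2,0,2],
  [0,0,2,0,2,0,2,2,2,0,0,0,2,2,0,0,0,0,0,0,0,0,0,2],
  [0,0,2,0,2,2,0,0,0,2,0,0,0,2,0,2,0,2,0,0,0,0,0,2],
  [0,0,2,0,2,2,0,0,2,0,0,0,0,0,2,0,0,0,2,0,0,0,2,2],
  [0,0,2,2,0,0,0,0,0,0,0,0,0,0,0,2,0,2,0,2,2,2,0,2],
  [0,0,2,2,0,0,0,0,0,2,0,0,0,0,2,2,2,0,0,0,0,0,2,2],
  [0,0,2,2,0,0,0,0,2,0,0,0,0,2,0,0,2,2,2,0,0,0,0,2],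
  [0,0,2,2,0,0,2,0,2,0,0,2,0,0,2,0,0,0,0,2,0,0,0,2],
  [0,0,2,2,0,2,0,0,0,2,0,2,0,0,0,0,0,0,2,0,2,0,0,2],
  [0,0,2,2,0,2,0,0,2,0,2,0,2,0,0,2,0,0,0,0,0,0,0,2],
  [0,0,2,2,0,2,2,0,0,0,0,0,0,2,0,0,0,0,0,0,0,2,2,2],
  [0,0,2,2,2,0,0,0,0,0,0,2,2,0,0,0,0,2,0,0,0,0,2,2],
  [0,0,2,2,2,0,0,0,0,0,2,0,0,2,2,0,0,0,0,0,2,0,0,2],
  [0,2,0,0,0,0,0,0,0,0,2,0,0,2,0,0,0,0,0,2,2,2,2,2],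
  [0,2,0,0,0,0,0,0,0,2,0,2,2,0,0,0,2,0,0,0,2,0,2,2],
  [0,2,0,0,0,0,0,0,0,2,2,0,0,2,2,0,2,2,0,0,0,0,0,2],
  [0,2,0,0,0,0,0,0,2,0,2,0,0,0,0,2,2,0,2,0,0,0,2,2],
  [0,2,0,0,0,0,0,2,2,0,0,2,0,2,0,0,2,0,0,2,0,0,0,2],
  [0,2,0,0,0,0,0,2,2,2,2,0,2,0,0,0,0,0,0,0,0,2,0,2],
  [0,2,0,0,0,0,2,0,0,2,2,2,0,0,0,0,0,0,2,2,0,0,0,2],
  [0,2,0,0,0,0,2,0,2,0,0,0,2,0,0,2,0,0,0,2,2,0,0,2],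
  [0,2,0,0,0,0,2,2,0,2,0,0,0,2,0,2,0,0,0,0,0,0,2,2],
  [0,2,0,0,0,0,2,2,2,0,0,0,0,0,2,0,0,2,2,0,0,0,0,2],
  [0,2,0,0,0,2,0,0,2,0,0,0,2,2,0,0,0,2,0,0,0,0,2,2],
  [0,2,0,0,0,2,0,0,2,0,2,2,0,0,2,0,0,0,0,0,2,0,0,2],
  [0,2,0,0,0,2,0,2,0,0,0,0,0,0,2,0,2,0,0,0,0,2,2,2],
  [0,2,0,0,0,2,2,0,0,0,2,0,0,0,0,2,0,2,0,0,0,2,0,2],
  [0,2,0,0,2,0,0,0,0,0,0,0,0,0,2,2,0,2,0,0,2,0,2,2],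
  [0,2,0,0,2,0,0,0,0,2,0,0,0,0,0,2,2,0,0,2,0,2,0,2],
  [0,2,0,0,2,0,0,0,2,2,0,0,0,2,0,0,0,0,2,0,2,0,0,2],
  [0,2,0,0,2,0,0,2,0,0,0,0,2,0,0,0,0,0,2,2,0,0,2,2],
  [0,2,0,0,2,0,2,0,2,0,0,2,0,0,0,0,0,0,0,0,0,2,2,2],
  [0,2,0,0,2,2,0,0,0,0,0,2,0,0,0,0,2,2,2,0,0,0,0,2],
  [0,2,0,0,2,2,2,0,0,0,0,0,0,2,2,0,0,0,0,2,0,0,0,2],
  [0,2,0,2,0,0,0,0,0,0,2,0,2,0,0,0,0,2,2,0,2,0,0,2],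
  [0,2,0,2,0,0,0,0,2,2,0,2,0,0,0,2,0,2,0,0,0,0,0,2],
  [0,2,0,2,0,0,0,2,0,0,2,0,0,0,2,2,0,0,0,2,0,0,0,2],
  [0,2,0,2,0,0,2,0,0,2,0,0,0,0,2,0,0,0,0,0,2,2,0,2],
  [0,2,0,2,0,2,0,0,0,0,0,0,0,2,0,2,2,0,0,0,2,0,0,2],
  [0,2,0,2,0,2,0,0,2,0,0,0,0,0,0,0,0,0,2,2,0,2,0,2],
  [0,2,0,2,0,2,2,2,0,0,0,2,2,0,0,0,0,0,0,0,0,0,0,2],
  [0,2,0,2,2,0,0,0,2,0,0,0,2,0,2,0,2,0,0,0,0,0,0,2],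
  [0,2,0,2,2,0,0,2,0,0,0,0,0,2,0,0,0,2,0,0,0,2,0,2],
  [0,2,2,0,0,0,0,0,0,0,0,0,0,0,2,0,2,0,2,2,2,0,0,2],
  [0,2,2,0,0,0,0,0,0,2,0,0,0,0,0,0,0,2,2,0,0,2,2,2],
  [0,2,2,0,0,0,0,2,0,0,0,0,2,0,0,2,2,2,0,0,0,0,0,2],
  [0,2,2,0,0,0,2,0,0,0,0,2,0,2,0,0,0,2,0,0,2,0,0,2],
  [0,2,2,0,0,0,2,0,0,0,2,0,2,0,2,0,0,0,0,0,0,0,2,2],
  [0,2,2,0,0,2,0,0,0,0,0,2,0,0,0,2,0,0,0,2,0,0,2,2],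
  [0,2,2,0,0,2,0,2,0,0,2,0,0,2,0,0,0,0,2,0,0,0,0,2],
  [0,2,2,0,2,0,0,2,0,2,0,2,0,0,2,0,0,0,0,0,0,0,0,2],
  [0,2,2,0,2,2,0,0,0,0,0,0,2,0,0,0,0,0,0,0,2,2,0,2],
  [0,2,2,2,0,0,0,0,0,0,2,2,0,0,0,0,2,0,0,0,0,2,0,2],
  [0,2,2,2,0,0,0,0,0,2,0,0,2,2,0,0,0,0,0,2,0,0,0,2],
  [0,2,2,2,2,0,2,0,0,0,0,0,0,0,0,2,0,0,2,0,0,0,0,2]]

/-- Words for two elements fixing the base point. -/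
def genWords : List (List Nat) := [
  [3,3,1,8,9,1,0],
  [1,3,4,6,0,5,9,6,7]]

/-- Their permutations of the pairs. -/
def genPerms : List (List Nat) := [
  [89,2,14,104,78,49,28,82,120,3,19,123,97,105,57,72,46,62,25,96,40,15,44,59,20,32,43,109,110,47,13,108,79,4,124,66,51,119,31,91,54,33,27,95,21,10,101,34,65,113,61,118,45,0,107,53,17,70,117,8,6,1,102,94,80,26,64,88,23,56,50,67,7,122,75,30,11,38,85,92,63,83,22,90,35,73,48,74,55,71,98,69,12,112,84,121,37,18,9,111,24,36,39,16,81,125,76,114,99,60,42,116,68,29,100,58,77,106,103,52,93,86,41,115,5,87],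
  [86,59,1,35,68,27,54,44,99,61,79,96,37,11,75,106,105,88,20,71,26,53,95,123,67,41,91,4,80,63,13,50,55,124,72,118,92,56,84,70,34,57,121,104,120,101,5,81,113,115,23,12,15,102,51,19,85,116,110,31,78,39,93,48,62,33,38,108,60,107,22,3,45,103,24,73,94,122,46,29,40,119,117,82,76,6,112,25,42,65,66,111,87,17,114,97,21,9,77,58,47,28,30,0,18,83,100,16,49,74,7,43,14,125,90,109,36,69,32,52,8,64,89,2,98,10]]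

/-- The matching unitary matrices, coded. -/
def genMats : List Nat := [4792357688652,15064745714872]

/-- The isotropic vectors, coded. -/
def lineCodes : List Nat := [10465,673,12929,10721,13473,11681,3073,15617,24577,8513,22753,20033,16065,15841,14465,12897,5249,5505,15681,19489,12801,24289,769,8417,5537,10561,7489,5665,21505,12449,7425,6145,10497,17569,10945,16417,4257,4545,19841,7873,8449,19041,16769,10977,193,97,1537,23873,1633,23009,13665,8673,20865,22849,23265,21536,65,7649,8929,14753,1185,8897,17921,23777,16801,24033,20897,1377,18017,18945,289,11649,19873,20513,18593,19073,16513,14721,2080,11841,14369,11393,17857,21025,13825,18785,18049,1473,3104,16929,23809,5153,11297,13921,5697,2049,4449,9217,1665,21057,24608,13953,16097,14881,15585,20001,16961,22785,13761,4609,24257,7905,12737,12641,20609,18881,6176,17761,4705,7393,19585,11809,14913,23233,4737,9248]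

/-- The scalars by which the matrices move the chosen vectors. -/
def lineScal : List (List Nat) := [
  [5,23,22,13,8,24,2,17,5,2,19,10,9,10,21,13,4,7,11,18,8,6,3,23,17,14,22,6,15,20,3,19,15,22,7,3,6,20,1,15,8,15,11,17,21,17,4,3,9,22,14,1,8,23,1,18,7,21,5,14,16,20,5,24,21,2,18,21,10,10,1,14,11,20,2,4,8,4,20,23,16,6,11,7,13,11,24,5,3,10,9,24,1,18,16,22,15,9,18,17,8,2,19,3,7,14,20,4,19,19,21,2,14,9,15,16,17,6,24,18,23,13,13,16,8,7],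
  [20,2,24,14,2,6,11,22,23,7,22,17,18,6,4,17,11,21,9,6,2,7,17,15,5,12,3,2,6,23,16,20,10,15,21,19,17,14,10,12,20,18,23,1,1,14,9,18,24,11,9,9,11,14,3,17,9,17,21,23,15,16,24,1,3,15,16,7,14,3,16,1,15,7,24,20,9,18,18,8,14,12,12,13,6,1,16,22,22,20,6,21,22,21,7,7,24,12,1,18,9,3,23,15,17,12,12,2,24,21,2,17,15,6,22,16,6,22,11,11,21,3,20,23,18,23]]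

/-- Words moving the point `0` to every point. -/
def moveWords : List (List Nat) := [
  [],
  [1,1,1,0,0,1,1],
  [1,1,0,0,1,1],
  [1,0,0],
  [0,1,1,0],
  [0,1,1,1,0],
  [0,1,0,1,1],
  [1,1,1,0,1,0,0,0],
  [0,0,0,0,1,1],
  [0,1,1,1,1,0],
  [1,1,1,0,1],
  [1,0,0,1,1,1,1],
  [0,0,1,1,1,1,0,1],
  [0,0,1,1,1,1],
  [1,1,1],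
  [1,0,1,0,0,1,0,0],
  [0,0,1,1,1,0,0],
  [0,0,0,1,0,1,0],
  [1,0,1,0,0],
  [1,0,0,0,0,0],
  [1,1,0,1,0,0],
  [1,0,1,0,0,0,0,0],
  [1,0,0,1,1,1],
  [0,0,1,1],
  [1,0,0,1,1,0,1],
  [0,1,0,1,0,0],
  [0,1,0],
  [0,1,0,0,0,0],
  [0,0,1,0,1,1],
  [0,1,0,1],
  [0,1,1,1,1],
  [1,0,0,0,1,1],
  [1,1,1,1,0,0],
  [1,1,0],
  [0,0,0,1,0,1],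
  [1,1,0,0],
  [1,1,0,1,1,1],
  [0,0,1,0,0,0,0,0],
  [1,0,1,1,0,0],
  [0,1,0,0,0,0,0,0],
  [0,1,1,0,1,0,0],
  [1,0,1,0,1,0,0],
  [1,0,0,0,0],
  [0,0,1,0],
  [0,1,0,0,1,1,1],
  [0,0,1,0,0,1,0,0],
  [1,0,0,1,1,0],
  [0,0,1,0,1],
  [0,1],
  [1,1,0,0,0],
  [0,0,0,1,1,1],
  [1,1,0,1,0,1,1],
  [0,1,0,0,1,0,0],
  [0,0,0,0,0,0],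
  [1,0,1,0,1,1],
  [0,0,0,0,0],
  [0,0,1,0,1,0],
  [0,1,1,1],
  [1,0,1,0,0,0],
  [0,0,0,1,1],
  [1,0,1,1],
  [1,0,1,1,1,1,0],
  [1,0,0,1,1,0,0],
  [1,0,1,0,1],
  [0,0,1,1,0,0],
  [1,0],
  [0,1,1,0,0],
  [0,0,0],
  [0,1,1],
  [0,1,0,1,0],
  [0,0,1,1,1],
  [0,0],
  [1,0,0,0,1,0,1],
  [1,1,1,1,1],
  [0,0,1,1,0,1],
  [1,1,1,1],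
  [1,1,1,0,1,1,0,0],
  [1,1,1,1,1,0],
  [0,0,1,1,0],
  [1,1,1,1,0,1],
  [0,0,0,1,1,0,0],
  [0,0,1,0,0],
  [1,0,0,0,1,0,0],
  [0,0,0,1,0,0],
  [1,1,0,1,1,0,0],
  [0,0,0,1,1,0],
  [1],
  [0,1,1,0,1],
  [0,0,0,0],
  [0],
  [0,0,0,0,1,0,0],
  [1,0,1,0],
  [0,1,1,1,1,0,1],
  [1,1,0,0,1,1,0,0],
  [0,1,0,1,0,1],
  [0,0,0,1,0],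
  [0,1,0,0,0,0,0],
  [1,0,0,0,1,0],
  [1,1,1,1,0],
  [0,1,0,0,0],
  [0,0,1,0,1,0,1,0],
  [0,1,0,0,1,1,0],
  [1,0,0,0,0,0,0],
  [0,1,1,1,0,0],
  [0,1,0,0],
  [0,0,0,1,1,1,1],
  [0,0,1,0,1,0,0,0],
  [1,0,1,0,1,0],
  [1,0,0,0],
  [0,0,1,0,0,0,0],
  [1,1,0,1,0,0,0],
  [1,1,0,1,0],
  [1,1],
  [1,0,1],
  [0,1,0,1,0,1,0],
  [1,1,1,0,0,0],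
  [1,0,1,1,1],
  [0,1,0,1,0,0,0],
  [1,1,1,0,0],
  [1,0,0,1,0,0],
  [0,0,0,0,0,1,1],
  [1,1,0,0,0,0],
  [0,1,1,1,1,1],
  [1,0,0,1,1],
  [1,1,1,0],
  [1,1,0,1]]

/-- Words fixing the point `0` and moving the point `1` to every other point. -/
def fixWords : List (List Nat) := [
  [],
  [1,1,0,0,0,0,1,1,0,1,1,0,1,1,0,1,1,0,0,1,1,1,1,1,1,0,1,1,0,1,1,0,0,1,1,1,1,1,1,0,1,1,0,1,1,0,0,1,1,1,1,1,1,0,0,0,0,1,1,0,1,1,0,1,1,0,1,1,0,0,1,1,1,1,1,1,0,0,0,0,1,1,0,1,1,0,1,1,0,1,1,0,0,1,1,1,1,1,1,0,1,1,0,1,1,0,0,1,1,1,1,1,1,0,1,1,0,1,1,0,0,1,1,1,1],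
  [1,1,0,0,0,0,1,1,0,1,1,0,1,1,0,1,1,0,0,1,1,1,1,1,1,0,0,0,0,1,1,0,1,1,0,1,1,0,1,1,0,0,1,1,1,1,1,1,0,0,0,0,1,1,0],
  [1,1,0,1,1,0,1,1,0,0,1,1,1,1,1,1,0,1,1,0,1,1,0,0,1,1,1,1,1,1,0,0,0,0,1,1,0,1,1,0,1,1,0,1,1,0,0,1,1,1,1,1,1,0,1,1,0,1,1,0,0,1,1,1,1,1,1,0,1,1,0,1,1,0,0,1,1,1,1,1,1,0,0,0,0,1,1,0],
  [1,1,0,1,1,0,1,1,0,0,1,1,1,1,1,1,0,0,0,0,1,1,0],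
  [1,1,0,1,1,0,1,1,0,0,1,1,1,1,1,1,0,0,0,0,1,1,0,1,1,0,0,0,0,1,1,0,1,1,0,1,1,0,1,1,0,0,1,1,1,1],
  [1,1,0,0,0,0,1,1,0,1,1,0,0,0,0,1,1,0,1,1,0,1,1,0,1,1,0,0,1,1,1,1,1,1,0,1,1,0,1,1,0,0,1,1,1,1,1,1,0,0,0,0,1,1,0,1,1,0,1,1,0,1,1,0,0,1,1,1,1,1,1,0,0,0,0,1,1,0,1,1,0,1,1,0,1,1,0,0,1,1,1,1,1,1,0,1,1,0,1,1,0,0,1,1,1,1,1,1,0,1,1,0,1,1,0,0,1,1,1,1],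
  [1,1,0,0,0,0,1,1,0,1,1,0,0,0,0,1,1,0,1,1,0,1,1,0,1,1,0,0,1,1,1,1,1,1,0,0,0,0,1,1,0,1,1,0,1,1,0,1,1,0,0,1,1,1,1,1,1,0,1,1,0,1,1,0,0,1,1,1,1,1,1,0,0,0,0,1,1,0,1,1,0,1,1,0,1,1,0,0,1,1,1,1],
  [1,1,0,1,1,0,1,1,0,0,1,1,1,1,1,1,0,0,0,0,1,1,0,1,1,0,1,1,0,1,1,0,0,1,1,1,1,1,1,0,1,1,0,1,1,0,0,1,1,1,1,1,1,0,1,1,0,1,1,0,0,1,1,1,1,1,1,0,0,0,0,1,1,0,1,1,0,1,1,0,1,1,0,0,1,1,1,1,1,1,0,0,0,0,1,1,0],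
  [1,1,0,0,0,0,1,1,0,1,1,0,1,1,0,1,1,0,0,1,1,1,1,1,1,0,1,1,0,1,1,0,0,1,1,1,1,1,1,0,0,0,0,1,1,0,1,1,0,1,1,0,1,1,0,0,1,1,1,1,1,1,0,0,0,0,1,1,0,1,1,0,1,1,0,1,1,0,0,1,1,1,1],
  [1,1,0,0,0,0,1,1,0,1,1,0,0,0,0,1,1,0,1,1,0,1,1,0,1,1,0,0,1,1,1,1,1,1,0,1,1,0,1,1,0,0,1,1,1,1,1,1,0,1,1,0,1,1,0,0,1,1,1,1,1,1,0,0,0,0,1,1,0,1,1,0,1,1,0,1,1,0,0,1,1,1,1],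
  [1,1,0,1,1,0,1,1,0,0,1,1,1,1,1,1,0,1,1,0,1,1,0,0,1,1,1,1,1,1,0,0,0,0,1,1,0,1,1,0,0,0,0,1,1,0],
  [1,1,0,1,1,0,1,1,0,0,1,1,1,1,1,1,0,1,1,0,1,1,0,0,1,1,1,1,1,1,0,0,0,0,1,1,0,1,1,0,1,1,0,1,1,0,0,1,1,1,1,1,1,0,1,1,0,1,1,0,0,1,1,1,1,1,1,0,0,0,0,1,1,0],
  [1,1,0,1,1,0,1,1,0,0,1,1,1,1,1,1,0,1,1,0,1,1,0,0,1,1,1,1,1,1,0,0,0,0,1,1,0,1,1,0,1,1,0,1,1,0,0,1,1,1,1,1,1,0,0,0,0,1,1,0],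
  [1,1,0,1,1,0,1,1,0,0,1,1,1,1,1,1,0,1,1,0,1,1,0,0,1,1,1,1,1,1,0,1,1,0,1,1,0,0,1,1,1,1,1,1,0,0,0,0,1,1,0,1,1,0,1,1,0,1,1,0,0,1,1,1,1],
  [1,1,0,1,1,0,1,1,0,0,1,1,1,1,1,1,0,1,1,0,1,1,0,0,1,1,1,1,1,1,0,0,0,0,1,1,0,1,1,0,0,0,0,1,1,0,1,1,0,1,1,0,1,1,0,0,1,1,1,1,1,1,0,1,1,0,1,1,0,0,1,1,1,1,1,1,0,0,0,0,1,1,0,1,1,0,1,1,0,1,1,0,0,1,1,1,1],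
  [1,1,0,1,1,0,1,1,0,0,1,1,1,1,1,1,0,1,1,0,1,1,0,0,1,1,1,1,1,1,0,0,0,0,1,1,0,1,1,0,1,1,0,1,1,0,0,1,1,1,1,1,1,0,0,0,0,1,1,0,1,1,0,1,1,0,1,1,0,0,1,1,1,1,1,1,0,0,0,0,1,1,0],
  [1,1,0,0,0,0,1,1,0,1,1,0,0,0,0,1,1,0,1,1,0,1,1,0,1,1,0,0,1,1,1,1,1,1,0,0,0,0,1,1,0,1,1,0,1,1,0,1,1,0,0,1,1,1,1,1,1,0,1,1,0,1,1,0,0,1,1,1,1,1,1,0,0,0,0,1,1,0],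
  [1,1,0,1,1,0,1,1,0,0,1,1,1,1,1,1,0,0,0,0,1,1,0,1,1,0,0,0,0,1,1,0,1,1,0,0,0,0,1,1,0,1,1,0,1,1,0,1,1,0,0,1,1,1,1],
  [1,1,0,0,0,0,1,1,0,1,1,0,1,1,0,1,1,0,0,1,1,1,1,1,1,0,0,0,0,1,1,0,1,1,0,1,1,0,1,1,0,0,1,1,1,1,1,1,0,1,1,0,1,1,0,0,1,1,1,1,1,1,0,0,0,0,1,1,0,1,1,0,1,1,0,1,1,0,0,1,1,1,1],
  [1,1,0,0,0,0,1,1,0,1,1,0,0,0,0,1,1,0,1,1,0,0,0,0,1,1,0,1,1,0,1,1,0,1,1,0,0,1,1,1,1],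
  [1,1,0,0,0,0,1,1,0,1,1,0,0,0,0,1,1,0,1,1,0,1,1,0,1,1,0,0,1,1,1,1,1,1,0,1,1,0,1,1,0,0,1,1,1,1,1,1,0,0,0,0,1,1,0],
  [1,1,0,1,1,0,1,1,0,0,1,1,1,1,1,1,0,1,1,0,1,1,0,0,1,1,1,1,1,1,0,0,0,0,1,1,0,1,1,0,0,0,0,1,1,0,1,1,0,0,0,0,1,1,0,1,1,0,1,1,0,1,1,0,0,1,1,1,1],
  [1,1,0,0,0,0,1,1,0,1,1,0,1,1,0,1,1,0,0,1,1,1,1,1,1,0,1,1,0,1,1,0,0,1,1,1,1,1,1,0,1,1,0,1,1,0,0,1,1,1,1,1,1,0,0,0,0,1,1,0,1,1,0,0,0,0,1,1,0,1,1,0,0,0,0,1,1,0,1,1,0,1,1,0,1,1,0,0,1,1,1,1],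
  [1,1,0,1,1,0,1,1,0,0,1,1,1,1,1,1,0,0,0,0,1,1,0,1,1,0,0,0,0,1,1,0,1,1,0,0,0,0,1,1,0,1,1,0,1,1,0,1,1,0,0,1,1,1,1,1,1,0,0,0,0,1,1,0,1,1,0,1,1,0,1,1,0,0,1,1,1,1,1,1,0,1,1,0,1,1,0,0,1,1,1,1,1,1,0,1,1,0,1,1,0,0,1,1,1,1],
  [1,1,0,1,1,0,1,1,0,0,1,1,1,1,1,1,0,1,1,0,1,1,0,0,1,1,1,1,1,1,0,1,1,0,1,1,0,0,1,1,1,1,1,1,0,0,0,0,1,1,0,1,1,0,0,0,0,1,1,0,1,1,0,0,0,0,1,1,0,1,1,0,1,1,0,1,1,0,0,1,1,1,1,1,1,0,0,0,0,1,1,0,1,1,0,1,1,0,1,1,0,0,1,1,1,1,1,1,0,1,1,0,1,1,0,0,1,1,1,1,1,1,0,1,1,0,1,1,0,0,1,1,1,1],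
  [1,1,0,1,1,0,1,1,0,0,1,1,1,1,1,1,0,0,0,0,1,1,0,1,1,0,1,1,0,1,1,0,0,1,1,1,1,1,1,0,1,1,0,1,1,0,0,1,1,1,1,1,1,0,0,0,0,1,1,0,1,1,0,1,1,0,1,1,0,0,1,1,1,1,1,1,0,1,1,0,1,1,0,0,1,1,1,1,1,1,0,1,1,0,1,1,0,0,1,1,1,1,1,1,0,0,0,0,1,1,0],
  [1,1,0,0,0,0,1,1,0,1,1,0,0,0,0,1,1,0,1,1,0,0,0,0,1,1,0,1,1,0,1,1,0,1,1,0,0,1,1,1,1,1,1,0,0,0,0,1,1,0,1,1,0,1,1,0,1,1,0,0,1,1,1,1,1,1,0,0,0,0,1,1,0,1,1,0,1,1,0,1,1,0,0,1,1,1,1],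
  [1,1,0,1,1,0,1,1,0,0,1,1,1,1,1,1,0,0,0,0,1,1,0,1,1,0,1,1,0,1,1,0,0,1,1,1,1,1,1,0,0,0,0,1,1,0],
  [1,1,0,0,0,0,1,1,0,1,1,0,0,0,0,1,1,0,1,1,0,1,1,0,1,1,0,0,1,1,1,1,1,1,0,0,0,0,1,1,0,1,1,0,1,1,0,1,1,0,0,1,1,1,1,1,1,0,0,0,0,1,1,0,1,1,0,1,1,0,1,1,0,0,1,1,1,1],
  [1,1,0,1,1,0,1,1,0,0,1,1,1,1,1,1,0,1,1,0,1,1,0,0,1,1,1,1,1,1,0,0,0,0,1,1,0,1,1,0,1,1,0,1,1,0,0,1,1,1,1],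
  [1,1,0,1,1,0,1,1,0,0,1,1,1,1,1,1,0,1,1,0,1,1,0,0,1,1,1,1,1,1,0,1,1,0,1,1,0,0,1,1,1,1,1,1,0,0,0,0,1,1,0,1,1,0,1,1,0,1,1,0,0,1,1,1,1,1,1,0,0,0,0,1,1,0],
  [1,1,0,1,1,0,1,1,0,0,1,1,1,1,1,1,0,1,1,0,1,1,0,0,1,1,1,1,1,1,0,0,0,0,1,1,0,1,1,0,1,1,0,1,1,0,0,1,1,1,1,1,1,0,1,1,0,1,1,0,0,1,1,1,1,1,1,0,1,1,0,1,1,0,0,1,1,1,1,1,1,0,0,0,0,1,1,0,1,1,0,1,1,0,1,1,0,0,1,1,1,1],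
  [1,1,0,0,0,0,1,1,0,1,1,0,1,1,0,1,1,0,0,1,1,1,1,1,1,0,0,0,0,1,1,0,1,1,0,1,1,0,1,1,0,0,1,1,1,1,1,1,0,1,1,0,1,1,0,0,1,1,1,1,1,1,0,1,1,0,1,1,0,0,1,1,1,1,1,1,0,0,0,0,1,1,0,1,1,0,1,1,0,1,1,0,0,1,1,1,1],
  [1,1,0,1,1,0,1,1,0,0,1,1,1,1,1,1,0,0,0,0,1,1,0,1,1,0,1,1,0,1,1,0,0,1,1,1,1,1,1,0,1,1,0,1,1,0,0,1,1,1,1,1,1,0,1,1,0,1,1,0,0,1,1,1,1,1,1,0,0,0,0,1,1,0,1,1,0,1,1,0,1,1,0,0,1,1,1,1],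
  [1,1,0,0,0,0,1,1,0,1,1,0,1,1,0,1,1,0,0,1,1,1,1,1,1,0,1,1,0,1,1,0,0,1,1,1,1,1,1,0,0,0,0,1,1,0,1,1,0,0,0,0,1,1,0],
  [1,1,0,1,1,0,1,1,0,0,1,1,1,1,1,1,0,1,1,0,1,1,0,0,1,1,1,1,1,1,0,1,1,0,1,1,0,0,1,1,1,1,1,1,0,0,0,0,1,1,0],
  [1,1,0,1,1,0,1,1,0,0,1,1,1,1,1,1,0,0,0,0,1,1,0,1,1,0,1,1,0,1,1,0,0,1,1,1,1,1,1,0,0,0,0,1,1,0,1,1,0,1,1,0,1,1,0,0,1,1,1,1],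
  [1,1,0,0,0,0,1,1,0,1,1,0,0,0,0,1,1,0,1,1,0,1,1,0,1,1,0,0,1,1,1,1,1,1,0,1,1,0,1,1,0,0,1,1,1,1,1,1,0,0,0,0,1,1,0,1,1,0,1,1,0,1,1,0,0,1,1,1,1],
  [1,1,0,0,0,0,1,1,0,1,1,0,1,1,0,1,1,0,0,1,1,1,1,1,1,0,1,1,0,1,1,0,0,1,1,1,1,1,1,0,0,0,0,1,1,0,1,1,0,0,0,0,1,1,0,1,1,0,1,1,0,1,1,0,0,1,1,1,1,1,1,0,1,1,0,1,1,0,0,1,1,1,1,1,1,0,0,0,0,1,1,0,1,1,0,1,1,0,1,1,0,0,1,1,1,1],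
  [1,1,0,0,0,0,1,1,0,1,1,0,1,1,0,1,1,0,0,1,1,1,1,1,1,0,0,0,0,1,1,0,1,1,0,1,1,0,1,1,0,0,1,1,1,1,1,1,0,1,1,0,1,1,0,0,1,1,1,1,1,1,0,0,0,0,1,1,0,1,1,0,0,0,0,1,1,0],
  [1,1,0,1,1,0,1,1,0,0,1,1,1,1,1,1,0,0,0,0,1,1,0,1,1,0,0,0,0,1,1,0,1,1,0,1,1,0,1,1,0,0,1,1,1,1,1,1,0,1,1,0,1,1,0,0,1,1,1,1,1,1,0,0,0,0,1,1,0,1,1,0,1,1,0,1,1,0,0,1,1,1,1,1,1,0,0,0,0,1,1,0,1,1,0,1,1,0,1,1,0,0,1,1,1,1,1,1,0,1,1,0,1,1,0,0,1,1,1,1,1,1,0,1,1,0,1,1,0,0,1,1,1,1],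
  [1,1,0,0,0,0,1,1,0,1,1,0,1,1,0,1,1,0,0,1,1,1,1,1,1,0,1,1,0,1,1,0,0,1,1,1,1,1,1,0,0,0,0,1,1,0,1,1,0,1,1,0,1,1,0,0,1,1,1,1,1,1,0,0,0,0,1,1,0,1,1,0,1,1,0,1,1,0,0,1,1,1,1,1,1,0,0,0,0,1,1,0],
  [1,1,0,0,0,0,1,1,0,1,1,0,1,1,0,1,1,0,0,1,1,1,1,1,1,0,0,0,0,1,1,0],
  [1,1,0,0,0,0,1,1,0,1,1,0,0,0,0,1,1,0,1,1,0,0,0,0,1,1,0,1,1,0,1,1,0,1,1,0,0,1,1,1,1,1,1,0,0,0,0,1,1,0,1,1,0,1,1,0,1,1,0,0,1,1,1,1,1,1,0,1,1,0,1,1,0,0,1,1,1,1,1,1,0,1,1,0,1,1,0,0,1,1,1,1],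
  [1,1,0,0,0,0,1,1,0,1,1,0,1,1,0,1,1,0,0,1,1,1,1,1,1,0,1,1,0,1,1,0,0,1,1,1,1,1,1,0,1,1,0,1,1,0,0,1,1,1,1,1,1,0,0,0,0,1,1,0,1,1,0,0,0,0,1,1,0,1,1,0,1,1,0,1,1,0,0,1,1,1,1],
  [1,1,0,1,1,0,1,1,0,0,1,1,1,1,1,1,0,1,1,0,1,1,0,0,1,1,1,1,1,1,0,0,0,0,1,1,0,1,1,0,1,1,0,1,1,0,0,1,1,1,1,1,1,0,0,0,0,1,1,0,1,1,0,0,0,0,1,1,0],
  [1,1,0,1,1,0,1,1,0,0,1,1,1,1,1,1,0,1,1,0,1,1,0,0,1,1,1,1,1,1,0,0,0,0,1,1,0,1,1,0,1,1,0,1,1,0,0,1,1,1,1,1,1,0,0,0,0,1,1,0,1,1,0,1,1,0,1,1,0,0,1,1,1,1,1,1,0,1,1,0,1,1,0,0,1,1,1,1,1,1,0,0,0,0,1,1,0,1,1,0,1,1,0,1,1,0,0,1,1,1,1],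
  [1,1,0,0,0,0,1,1,0,1,1,0,1,1,0,1,1,0,0,1,1,1,1,1,1,0,0,0,0,1,1,0,1,1,0,0,0,0,1,1,0,1,1,0,0,0,0,1,1,0,1,1,0,1,1,0,1,1,0,0,1,1,1,1],
  [1,1,0,0,0,0,1,1,0,1,1,0,1,1,0,1,1,0,0,1,1,1,1],
  [1,1,0,1,1,0,1,1,0,0,1,1,1,1,1,1,0,1,1,0,1,1,0,0,1,1,1,1,1,1,0,1,1,0,1,1,0,0,1,1,1,1,1,1,0,0,0,0,1,1,0,1,1,0,1,1,0,1,1,0,0,1,1,1,1,1,1,0,1,1,0,1,1,0,0,1,1,1,1,1,1,0,0,0,0,1,1,0],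
  [1,1,0,1,1,0,1,1,0,0,1,1,1,1,1,1,0,1,1,0,1,1,0,0,1,1,1,1,1,1,0,1,1,0,1,1,0,0,1,1,1,1,1,1,0,0,0,0,1,1,0,1,1,0,0,0,0,1,1,0,1,1,0,0,0,0,1,1,0,1,1,0,1,1,0,1,1,0,0,1,1,1,1],
  [1,1,0,0,0,0,1,1,0,1,1,0,1,1,0,1,1,0,0,1,1,1,1,1,1,0,0,0,0,1,1,0,1,1,0,0,0,0,1,1,0],
  [1,1,0,1,1,0,1,1,0,0,1,1,1,1,1,1,0,0,0,0,1,1,0,1,1,0,1,1,0,1,1,0,0,1,1,1,1,1,1,0,0,0,0,1,1,0,1,1,0,1,1,0,1,1,0,0,1,1,1,1,1,1,0,0,0,0,1,1,0],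
  [1,1,0,1,1,0,1,1,0,0,1,1,1,1,1,1,0,0,0,0,1,1,0,1,1,0,1,1,0,1,1,0,0,1,1,1,1,1,1,0,1,1,0,1,1,0,0,1,1,1,1,1,1,0,0,0,0,1,1,0,1,1,0,0,0,0,1,1,0],
  [1,1,0,1,1,0,1,1,0,0,1,1,1,1,1,1,0,0,0,0,1,1,0,1,1,0,1,1,0,1,1,0,0,1,1,1,1,1,1,0,1,1,0,1,1,0,0,1,1,1,1,1,1,0,0,0,0,1,1,0,1,1,0,1,1,0,1,1,0,0,1,1,1,1,1,1,0,0,0,0,1,1,0,1,1,0,1,1,0,1,1,0,0,1,1,1,1],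
  [1,1,0,0,0,0,1,1,0,1,1,0,1,1,0,1,1,0,0,1,1,1,1,1,1,0,0,0,0,1,1,0,1,1,0,1,1,0,1,1,0,0,1,1,1,1],
  [1,1,0,1,1,0,1,1,0,0,1,1,1,1,1,1,0,1,1,0,1,1,0,0,1,1,1,1,1,1,0,1,1,0,1,1,0,0,1,1,1,1],
  [1,1,0,0,0,0,1,1,0,1,1,0,0,0,0,1,1,0,1,1,0,1,1,0,1,1,0,0,1,1,1,1],
  [1,1,0,1,1,0,1,1,0,0,1,1,1,1,1,1,0,1,1,0,1,1,0,0,1,1,1,1,1,1,0,0,0,0,1,1,0,1,1,0,1,1,0,1,1,0,0,1,1,1,1,1,1,0,1,1,0,1,1,0,0,1,1,1,1,1,1,0,0,0,0,1,1,0,1,1,0,1,1,0,1,1,0,0,1,1,1,1,1,1,0,1,1,0,1,1,0,0,1,1,1,1,1,1,0,1,1,0,1,1,0,0,1,1,1,1,1,1,0,0,0,0,1,1,0],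
  [1,1,0,1,1,0,1,1,0,0,1,1,1,1,1,1,0,1,1,0,1,1,0,0,1,1,1,1,1,1,0,0,0,0,1,1,0],
  [1,1,0,1,1,0,1,1,0,0,1,1,1,1,1,1,0,0,0,0,1,1,0,1,1,0,0,0,0,1,1,0,1,1,0,1,1,0,1,1,0,0,1,1,1,1,1,1,0,1,1,0,1,1,0,0,1,1,1,1,1,1,0,0,0,0,1,1,0,1,1,0,1,1,0,1,1,0,0,1,1,1,1],
  [1,1,0,1,1,0,1,1,0,0,1,1,1,1,1,1,0,0,0,0,1,1,0,1,1,0,1,1,0,1,1,0,0,1,1,1,1,1,1,0,1,1,0,1,1,0,0,1,1,1,1,1,1,0,0,0,0,1,1,0,1,1,0,1,1,0,1,1,0,0,1,1,1,1],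
  [1,1,0,1,1,0,1,1,0,0,1,1,1,1,1,1,0,1,1,0,1,1,0,0,1,1,1,1,1,1,0,0,0,0,1,1,0,1,1,0,1,1,0,1,1,0,0,1,1,1,1,1,1,0,0,0,0,1,1,0,1,1,0,1,1,0,1,1,0,0,1,1,1,1],
  [1,1,0,0,0,0,1,1,0,1,1,0,0,0,0,1,1,0,1,1,0,0,0,0,1,1,0,1,1,0,1,1,0,1,1,0,0,1,1,1,1,1,1,0,0,0,0,1,1,0,1,1,0,1,1,0,1,1,0,0,1,1,1,1],
  [1,1,0,1,1,0,1,1,0,0,1,1,1,1],
  [1,1,0,0,0,0,1,1,0,1,1,0,1,1,0,1,1,0,0,1,1,1,1,1,1,0,0,0,0,1,1,0,1,1,0,0,0,0,1,1,0,1,1,0,1,1,0,1,1,0,0,1,1,1,1,1,1,0,1,1,0,1,1,0,0,1,1,1,1,1,1,0,0,0,0,1,1,0,1,1,0,1,1,0,1,1,0,0,1,1,1,1],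
  [1,1,0,1,1,0,1,1,0,0,1,1,1,1,1,1,0,1,1,0,1,1,0,0,1,1,1,1,1,1,0,1,1,0,1,1,0,0,1,1,1,1,1,1,0,0,0,0,1,1,0,1,1,0,1,1,0,1,1,0,0,1,1,1,1,1,1,0,0,0,0,1,1,0,1,1,0,1,1,0,1,1,0,0,1,1,1,1,1,1,0,1,1,0,1,1,0,0,1,1,1,1,1,1,0,0,0,0,1,1,0,1,1,0,1,1,0,1,1,0,0,1,1,1,1],
  [1,1,0,1,1,0,1,1,0,0,1,1,1,1,1,1,0,1,1,0,1,1,0,0,1,1,1,1,1,1,0,0,0,0,1,1,0,1,1,0,0,0,0,1,1,0,1,1,0,0,0,0,1,1,0,1,1,0,1,1,0,1,1,0,0,1,1,1,1,1,1,0,1,1,0,1,1,0,0,1,1,1,1,1,1,0,0,0,0,1,1,0,1,1,0,1,1,0,1,1,0,0,1,1,1,1],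
  [1,1,0,1,1,0,1,1,0,0,1,1,1,1,1,1,0,0,0,0,1,1,0,1,1,0,0,0,0,1,1,0,1,1,0,0,0,0,1,1,0,1,1,0,1,1,0,1,1,0,0,1,1,1,1,1,1,0,0,0,0,1,1,0,1,1,0,1,1,0,1,1,0,0,1,1,1,1],
  [1,1,0,0,0,0,1,1,0,1,1,0,0,0,0,1,1,0,1,1,0,1,1,0,1,1,0,0,1,1,1,1,1,1,0,0,0,0,1,1,0,1,1,0,1,1,0,1,1,0,0,1,1,1,1,1,1,0,1,1,0,1,1,0,0,1,1,1,1,1,1,0,1,1,0,1,1,0,0,1,1,1,1],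
  [1,1,0,1,1,0,1,1,0,0,1,1,1,1,1,1,0,1,1,0,1,1,0,0,1,1,1,1,1,1,0,1,1,0,1,1,0,0,1,1,1,1,1,1,0,0,0,0,1,1,0,1,1,0,1,1,0,1,1,0,0,1,1,1,1,1,1,0,0,0,0,1,1,0,1,1,0,1,1,0,1,1,0,0,1,1,1,1,1,1,0,1,1,0,1,1,0,0,1,1,1,1,1,1,0,1,1,0,1,1,0,0,1,1,1,1],
  [1,1,0,0,0,0,1,1,0,1,1,0,1,1,0,1,1,0,0,1,1,1,1,1,1,0,1,1,0,1,1,0,0,1,1,1,1,1,1,0,0,0,0,1,1,0,1,1,0,0,0,0,1,1,0,1,1,0,0,0,0,1,1,0,1,1,0,1,1,0,1,1,0,0,1,1,1,1],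
  [1,1,0,1,1,0,1,1,0,0,1,1,1,1,1,1,0,0,0,0,1,1,0,1,1,0,1,1,0,1,1,0,0,1,1,1,1,1,1,0,1,1,0,1,1,0,0,1,1,1,1,1,1,0,1,1,0,1,1,0,0,1,1,1,1,1,1,0,0,0,0,1,1,0],
  [1,1,0,0,0,0,1,1,0],
  [1,1,0,0,0,0,1,1,0,1,1,0,0,0,0,1,1,0,1,1,0,0,0,0,1,1,0,1,1,0,1,1,0,1,1,0,0,1,1,1,1,1,1,0,0,0,0,1,1,0,1,1,0,1,1,0,1,1,0,0,1,1,1,1,1,1,0,1,1,0,1,1,0,0,1,1,1,1,1,1,0,0,0,0,1,1,0,1,1,0,1,1,0,1,1,0,0,1,1,1,1],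
  [1,1,0,0,0,0,1,1,0,1,1,0,1,1,0,1,1,0,0,1,1,1,1,1,1,0,1,1,0,1,1,0,0,1,1,1,1,1,1,0,0,0,0,1,1,0,1,1,0,1,1,0,1,1,0,0,1,1,1,1,1,1,0,0,0,0,1,1,0,1,1,0,1,1,0,1,1,0,0,1,1,1,1,1,1,0,1,1,0,1,1,0,0,1,1,1,1,1,1,0,1,1,0,1,1,0,0,1,1,1,1],
  [1,1,0,0,0,0,1,1,0,1,1,0,0,0,0,1,1,0,1,1,0,0,0,0,1,1,0,1,1,0,1,1,0,1,1,0,0,1,1,1,1,1,1,0,1,1,0,1,1,0,0,1,1,1,1,1,1,0,0,0,0,1,1,0],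
  [1,1,0,1,1,0,1,1,0,0,1,1,1,1,1,1,0,0,0,0,1,1,0,1,1,0,0,0,0,1,1,0,1,1,0,0,0,0,1,1,0,1,1,0,1,1,0,1,1,0,0,1,1,1,1,1,1,0,1,1,0,1,1,0,0,1,1,1,1,1,1,0,0,0,0,1,1,0],
  [1,1,0,1,1,0,1,1,0,0,1,1,1,1,1,1,0,1,1,0,1,1,0,0,1,1,1,1,1,1,0,0,0,0,1,1,0,1,1,0,1,1,0,1,1,0,0,1,1,1,1,1,1,0,0,0,0,1,1,0,1,1,0,1,1,0,1,1,0,0,1,1,1,1,1,1,0,1,1,0,1,1,0,0,1,1,1,1,1,1,0,1,1,0,1,1,0,0,1,1,1,1],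
  [1,1,0,1,1,0,1,1,0,0,1,1,1,1,1,1,0,1,1,0,1,1,0,0,1,1,1,1,1,1,0,0,0,0,1,1,0,1,1,0,0,0,0,1,1,0,1,1,0,1,1,0,1,1,0,0,1,1,1,1],
  [1,1,0,1,1,0,1,1,0,0,1,1,1,1,1,1,0,0,0,0,1,1,0,1,1,0,1,1,0,1,1,0,0,1,1,1,1,1,1,0,0,0,0,1,1,0,1,1,0,1,1,0,1,1,0,0,1,1,1,1,1,1,0,1,1,0,1,1,0,0,1,1,1,1,1,1,0,0,0,0,1,1,0,1,1,0,1,1,0,1,1,0,0,1,1,1,1],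
  [1,1,0,1,1,0,1,1,0,0,1,1,1,1,1,1,0,0,0,0,1,1,0,1,1,0,1,1,0,1,1,0,0,1,1,1,1,1,1,0,0,0,0,1,1,0,1,1,0,0,0,0,1,1,0],
  [1,1,0,0,0,0,1,1,0,1,1,0,1,1,0,1,1,0,0,1,1,1,1,1,1,0,1,1,0,1,1,0,0,1,1,1,1,1,1,0,1,1,0,1,1,0,0,1,1,1,1,1,1,0,0,0,0,1,1,0,1,1,0,1,1,0,1,1,0,0,1,1,1,1,1,1,0,0,0,0,1,1,0],
  [1,1,0,1,1,0,1,1,0,0,1,1,1,1,1,1,0,1,1,0,1,1,0,0,1,1,1,1,1,1,0,1,1,0,1,1,0,0,1,1,1,1,1,1,0,0,0,0,1,1,0,1,1,0,1,1,0,1,1,0,0,1,1,1,1,1,1,0,0,0,0,1,1,0,1,1,0,1,1,0,1,1,0,0,1,1,1,1],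
  [1,1,0,0,0,0,1,1,0,1,1,0,1,1,0,1,1,0,0,1,1,1,1,1,1,0,1,1,0,1,1,0,0,1,1,1,1,1,1,0,1,1,0,1,1,0,0,1,1,1,1,1,1,0,0,0,0,1,1,0,1,1,0,1,1,0,1,1,0,0,1,1,1,1],
  [1,1,0,0,0,0,1,1,0,1,1,0,1,1,0,1,1,0,0,1,1,1,1,1,1,0,0,0,0,1,1,0,1,1,0,1,1,0,1,1,0,0,1,1,1,1,1,1,0,1,1,0,1,1,0,0,1,1,1,1,1,1,0,1,1,0,1,1,0,0,1,1,1,1,1,1,0,0,0,0,1,1,0],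
  [1,1,0,0,0,0,1,1,0,1,1,0,1,1,0,1,1,0,0,1,1,1,1,1,1,0,0,0,0,1,1,0,1,1,0,1,1,0,1,1,0,0,1,1,1,1,1,1,0,0,0,0,1,1,0,1,1,0,1,1,0,1,1,0,0,1,1,1,1],
  [1,1,0,0,0,0,1,1,0,1,1,0,0,0,0,1,1,0,1,1,0,1,1,0,1,1,0,0,1,1,1,1,1,1,0,1,1,0,1,1,0,0,1,1,1,1,1,1,0,0,0,0,1,1,0,1,1,0,1,1,0,1,1,0,0,1,1,1,1,1,1,0,1,1,0,1,1,0,0,1,1,1,1,1,1,0,0,0,0,1,1,0],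
  [1,1,0,1,1,0,1,1,0,0,1,1,1,1,1,1,0,1,1,0,1,1,0,0,1,1,1,1],
  [1,1,0,0,0,0,1,1,0,1,1,0,1,1,0,1,1,0,0,1,1,1,1,1,1,0,1,1,0,1,1,0,0,1,1,1,1,1,1,0,1,1,0,1,1,0,0,1,1,1,1],
  [1,1,0,0,0,0,1,1,0,1,1,0,1,1,0,1,1,0,0,1,1,1,1,1,1,0,1,1,0,1,1,0,0,1,1,1,1,1,1,0,0,0,0,1,1,0],
  [1,1,0,0,0,0,1,1,0,1,1,0,1,1,0,1,1,0,0,1,1,1,1,1,1,0,0,0,0,1,1,0,1,1,0,0,0,0,1,1,0,1,1,0,0,0,0,1,1,0,1,1,0,1,1,0,1,1,0,0,1,1,1,1,1,1,0,1,1,0,1,1,0,0,1,1,1,1,1,1,0,0,0,0,1,1,0,1,1,0,1,1,0,1,1,0,0,1,1,1,1],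
  [1,1,0,1,1,0,1,1,0,0,1,1,1,1,1,1,0,0,0,0,1,1,0,1,1,0,0,0,0,1,1,0,1,1,0,0,0,0,1,1,0,1,1,0,1,1,0,1,1,0,0,1,1,1,1,1,1,0,1,1,0,1,1,0,0,1,1,1,1,1,1,0,0,0,0,1,1,0,1,1,0,1,1,0,1,1,0,0,1,1,1,1],
  [1,1,0,0,0,0,1,1,0,1,1,0,0,0,0,1,1,0,1,1,0,0,0,0,1,1,0,1,1,0,1,1,0,1,1,0,0,1,1,1,1,1,1,0,1,1,0,1,1,0,0,1,1,1,1,1,1,0,1,1,0,1,1,0,0,1,1,1,1,1,1,0,0,0,0,1,1,0,1,1,0,1,1,0,1,1,0,0,1,1,1,1],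
  [1,1,0,1,1,0,1,1,0,0,1,1,1,1,1,1,0,1,1,0,1,1,0,0,1,1,1,1,1,1,0,0,0,0,1,1,0,1,1,0,0,0,0,1,1,0,1,1,0,0,0,0,1,1,0,1,1,0,1,1,0,1,1,0,0,1,1,1,1,1,1,0,0,0,0,1,1,0,1,1,0,1,1,0,1,1,0,0,1,1,1,1,1,1,0,1,1,0,1,1,0,0,1,1,1,1,1,1,0,1,1,0,1,1,0,0,1,1,1,1],
  [1,1,0,0,0,0,1,1,0,1,1,0,1,1,0,1,1,0,0,1,1,1,1,1,1,0,1,1,0,1,1,0,0,1,1,1,1,1,1,0,1,1,0,1,1,0,0,1,1,1,1,1,1,0,0,0,0,1,1,0],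
  [1,1,0,1,1,0,1,1,0,0,1,1,1,1,1,1,0,0,0,0,1,1,0,1,1,0,1,1,0,1,1,0,0,1,1,1,1,1,1,0,0,0,0,1,1,0,1,1,0,0,0,0,1,1,0,1,1,0,0,0,0,1,1,0,1,1,0,1,1,0,1,1,0,0,1,1,1,1,1,1,0,1,1,0,1,1,0,0,1,1,1,1,1,1,0,0,0,0,1,1,0,1,1,0,1,1,0,1,1,0,0,1,1,1,1],
  [1,1,0,1,1,0,1,1,0,0,1,1,1,1,1,1,0,0,0,0,1,1,0,1,1,0,1,1,0,1,1,0,0,1,1,1,1,1,1,0,0,0,0,1,1,0,1,1,0,1,1,0,1,1,0,0,1,1,1,1,1,1,0,0,0,0,1,1,0,1,1,0,1,1,0,1,1,0,0,1,1,1,1],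
  [1,1,0,0,0,0,1,1,0,1,1,0,1,1,0,1,1,0,0,1,1,1,1,1,1,0,1,1,0,1,1,0,0,1,1,1,1,1,1,0,0,0,0,1,1,0,1,1,0,1,1,0,1,1,0,0,1,1,1,1,1,1,0,1,1,0,1,1,0,0,1,1,1,1,1,1,0,0,0,0,1,1,0],
  [1,1,0,0,0,0,1,1,0,1,1,0,0,0,0,1,1,0,1,1,0,0,0,0,1,1,0,1,1,0,1,1,0,1,1,0,0,1,1,1,1,1,1,0,0,0,0,1,1,0,1,1,0,1,1,0,1,1,0,0,1,1,1,1,1,1,0,0,0,0,1,1,0,1,1,0,1,1,0,1,1,0,0,1,1,1,1,1,1,0,1,1,0,1,1,0,0,1,1,1,1,1,1,0,1,1,0,1,1,0,0,1,1,1,1],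
  [1,1,0,0,0,0,1,1,0,1,1,0,0,0,0,1,1,0,1,1,0,1,1,0,1,1,0,0,1,1,1,1,1,1,0,0,0,0,1,1,0,1,1,0,1,1,0,1,1,0,0,1,1,1,1,1,1,0,0,0,0,1,1,0,1,1,0,1,1,0,1,1,0,0,1,1,1,1,1,1,0,1,1,0,1,1,0,0,1,1,1,1,1,1,0,1,1,0,1,1,0,0,1,1,1,1],
  [1,1,0,1,1,0,1,1,0,0,1,1,1,1,1,1,0,0,0,0,1,1,0,1,1,0,1,1,0,1,1,0,0,1,1,1,1,1,1,0,1,1,0,1,1,0,0,1,1,1,1,1,1,0,0,0,0,1,1,0],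
  [1,1,0,1,1,0,1,1,0,0,1,1,1,1,1,1,0,0,0,0,1,1,0,1,1,0,0,0,0,1,1,0],
  [1,1,0,0,0,0,1,1,0,1,1,0,1,1,0,1,1,0,0,1,1,1,1,1,1,0,0,0,0,1,1,0,1,1,0,1,1,0,1,1,0,0,1,1,1,1,1,1,0,1,1,0,1,1,0,0,1,1,1,1,1,1,0,0,0,0,1,1,0,1,1,0,1,1,0,1,1,0,0,1,1,1,1,1,1,0,1,1,0,1,1,0,0,1,1,1,1,1,1,0,1,1,0,1,1,0,0,1,1,1,1,1,1,0,0,0,0,1,1,0],
  [1,1,0,1,1,0,1,1,0,0,1,1,1,1,1,1,0,0,0,0,1,1,0,1,1,0,1,1,0,1,1,0,0,1,1,1,1,1,1,0,1,1,0,1,1,0,0,1,1,1,1,1,1,0,0,0,0,1,1,0,1,1,0,1,1,0,1,1,0,0,1,1,1,1,1,1,0,1,1,0,1,1,0,0,1,1,1,1,1,1,0,0,0,0,1,1,0],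
  [1,1,0,0,0,0,1,1,0,1,1,0,0,0,0,1,1,0],
  [1,1,0,1,1,0,1,1,0,0,1,1,1,1,1,1,0,1,1,0,1,1,0,0,1,1,1,1,1,1,0,1,1,0,1,1,0,0,1,1,1,1,1,1,0,0,0,0,1,1,0,1,1,0,0,0,0,1,1,0,1,1,0,1,1,0,1,1,0,0,1,1,1,1],
  [1,1,0,0,0,0,1,1,0,1,1,0,1,1,0,1,1,0,0,1,1,1,1,1,1,0,1,1,0,1,1,0,0,1,1,1,1,1,1,0,1,1,0,1,1,0,0,1,1,1,1,1,1,0,0,0,0,1,1,0,1,1,0,0,0,0,1,1,0,1,1,0,1,1,0,1,1,0,0,1,1,1,1,1,1,0,1,1,0,1,1,0,0,1,1,1,1,1,1,0,0,0,0,1,1,0,1,1,0,1,1,0,1,1,0,0,1,1,1,1],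
  [1,1,0,1,1,0,1,1,0,0,1,1,1,1,1,1,0,1,1,0,1,1,0,0,1,1,1,1,1,1,0,0,0,0,1,1,0,1,1,0,1,1,0,1,1,0,0,1,1,1,1,1,1,0,0,0,0,1,1,0,1,1,0,1,1,0,1,1,0,0,1,1,1,1,1,1,0,0,0,0,1,1,0,1,1,0,1,1,0,1,1,0,0,1,1,1,1],
  [1,1,0,1,1,0,1,1,0,0,1,1,1,1,1,1,0,0,0,0,1,1,0,1,1,0,1,1,0,1,1,0,0,1,1,1,1],
  [1,1,0,1,1,0,1,1,0,0,1,1,1,1,1,1,0,0,0,0,1,1,0,1,1,0,1,1,0,1,1,0,0,1,1,1,1,1,1,0,1,1,0,1,1,0,0,1,1,1,1,1,1,0,1,1,0,1,1,0,0,1,1,1,1],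
  [1,1,0,0,0,0,1,1,0,1,1,0,0,0,0,1,1,0,1,1,0,0,0,0,1,1,0,1,1,0,1,1,0,1,1,0,0,1,1,1,1,1,1,0,1,1,0,1,1,0,0,1,1,1,1,1,1,0,0,0,0,1,1,0,1,1,0,1,1,0,1,1,0,0,1,1,1,1,1,1,0,1,1,0,1,1,0,0,1,1,1,1,1,1,0,0,0,0,1,1,0],
  [1,1,0,0,0,0,1,1,0,1,1,0,1,1,0,1,1,0,0,1,1,1,1,1,1,0,1,1,0,1,1,0,0,1,1,1,1,1,1,0,0,0,0,1,1,0,1,1,0,1,1,0,1,1,0,0,1,1,1,1],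
  [1,1,0,0,0,0,1,1,0,1,1,0,1,1,0,1,1,0,0,1,1,1,1,1,1,0,0,0,0,1,1,0,1,1,0,1,1,0,1,1,0,0,1,1,1,1,1,1,0,0,0,0,1,1,0,1,1,0,1,1,0,1,1,0,0,1,1,1,1,1,1,0,1,1,0,1,1,0,0,1,1,1,1,1,1,0,1,1,0,1,1,0,0,1,1,1,1],
  [1,1,0,0,0,0,1,1,0,1,1,0,1,1,0,1,1,0,0,1,1,1,1,1,1,0,0,0,0,1,1,0,1,1,0,1,1,0,1,1,0,0,1,1,1,1,1,1,0,1,1,0,1,1,0,0,1,1,1,1,1,1,0,1,1,0,1,1,0,0,1,1,1,1],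
  [1,1,0,1,1,0,1,1,0,0,1,1,1,1,1,1,0,1,1,0,1,1,0,0,1,1,1,1,1,1,0,1,1,0,1,1,0,0,1,1,1,1,1,1,0,0,0,0,1,1,0,1,1,0,0,0,0,1,1,0,1,1,0,1,1,0,1,1,0,0,1,1,1,1,1,1,0,1,1,0,1,1,0,0,1,1,1,1,1,1,0,0,0,0,1,1,0,1,1,0,1,1,0,1,1,0,0,1,1,1,1],
  [1,1,0,0,0,0,1,1,0,1,1,0,1,1,0,1,1,0,0,1,1,1,1,1,1,0,0,0,0,1,1,0,1,1,0,1,1,0,1,1,0,0,1,1,1,1,1,1,0,1,1,0,1,1,0,0,1,1,1,1,1,1,0,0,0,0,1,1,0],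
  [1,1,0,0,0,0,1,1,0,1,1,0,1,1,0,1,1,0,0,1,1,1,1,1,1,0,1,1,0,1,1,0,0,1,1,1,1,1,1,0,0,0,0,1,1,0,1,1,0,1,1,0,1,1,0,0,1,1,1,1,1,1,0,1,1,0,1,1,0,0,1,1,1,1,1,1,0,1,1,0,1,1,0,0,1,1,1,1,1,1,0,0,0,0,1,1,0],
  [1,1,0,1,1,0,1,1,0,0,1,1,1,1,1,1,0,1,1,0,1,1,0,0,1,1,1,1,1,1,0,0,0,0,1,1,0,1,1,0,0,0,0,1,1,0,1,1,0,0,0,0,1,1,0,1,1,0,1,1,0,1,1,0,0,1,1,1,1,1,1,0,0,0,0,1,1,0,1,1,0,1,1,0,1,1,0,0,1,1,1,1],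
  [1,1,0,0,0,0,1,1,0,1,1,0,1,1,0,1,1,0,0,1,1,1,1,1,1,0,1,1,0,1,1,0,0,1,1,1,1,1,1,0,1,1,0,1,1,0,0,1,1,1,1,1,1,0,0,0,0,1,1,0,1,1,0,1,1,0,1,1,0,0,1,1,1,1,1,1,0,0,0,0,1,1,0,1,1,0,1,1,0,1,1,0,0,1,1,1,1],
  [1,1,0,1,1,0,1,1,0,0,1,1,1,1,1,1,0,0,0,0,1,1,0,1,1,0,1,1,0,1,1,0,0,1,1,1,1,1,1,0,0,0,0,1,1,0,1,1,0,1,1,0,1,1,0,0,1,1,1,1,1,1,0,1,1,0,1,1,0,0,1,1,1,1,1,1,0,1,1,0,1,1,0,0,1,1,1,1],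
  [1,1,0,1,1,0,1,1,0,0,1,1,1,1,1,1,0,0,0,0,1,1,0,1,1,0,1,1,0,1,1,0,0,1,1,1,1,1,1,0,1,1,0,1,1,0,0,1,1,1,1,1,1,0,1,1,0,1,1,0,0,1,1,1,1,1,1,0,0,0,0,1,1,0,1,1,0,0,0,0,1,1,0,1,1,0,1,1,0,1,1,0,0,1,1,1,1],
  [1,1,0,0,0,0,1,1,0,1,1,0,0,0,0,1,1,0,1,1,0,1,1,0,1,1,0,0,1,1,1,1,1,1,0,0,0,0,1,1,0,1,1,0,1,1,0,1,1,0,0,1,1,1,1],
  [1,1,0,0,0,0,1,1,0,1,1,0,0,0,0,1,1,0,1,1,0,0,0,0,1,1,0,1,1,0,1,1,0,1,1,0,0,1,1,1,1,1,1,0,1,1,0,1,1,0,0,1,1,1,1,1,1,0,0,0,0,1,1,0,1,1,0,1,1,0,1,1,0,0,1,1,1,1]]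

end Cfsg.Agent.HS352
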