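import Cfsg.Agent.S2149
import Cfsg.Agent.HS352.Data

/-!
# Two unitary matrices moving the 126 isotropic points
-/

set_option autoImplicit false
set_option maxRecDepth 100000
set_option linter.style.haveILetI false
set_option linter.unusedSectionVars false

namespace Cfsg.Agent.HS352

open CfsgLib.U35 CfsgLib.Coset CfsgLib.Unitary Matrix

/-- The code of a line. -/
def lineCode (j : Fin 126) : Nat := lineCodes.getD j.val 0

/-- The code of a matrix. -/
def matCode (l : Fin 2) : Nat := genMats.getD l.val 0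

/-- The permutation of a generator. -/
def sigma (l : Fin 2) (j : Fin 126) : Fin 126 := Fin.ofNat 126 ((genPerms.getD l.val []).getD j.val 0)

/-- The scalar of a generator at a line. -/
def scal (l : Fin 2) (j : Fin 126) : Nat := (lineScal.getD l.val []).getD j.val 0

/-- The coded product of a matrix and a vector. -/
noncomputable def mvCode (c v i : Nat) : Nat :=
  fadd (fadd (fmul (ent c (3 * i)) (ent v 0)) (fmul (ent c (3 * i + 1)) (ent v 1)))
    (fmul (ent c (3 * i + 2)) (ent v 2))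

/-- A normalised code. -/
noncomputable def normed (v : Nat) : Bool :=
  cond (Nat.beq (ent v 0) 1) true (cond (Nat.beq (ent v 0) 0) (Nat.beq (ent v 1) 1) false)

theorem mat_ok : ∀ l : Fin 2, coded (matCode l) = true ∧ isUnitary (matCode l) = true ∧
    fdet (matCode l) = 1 := by decide +kernel

theorem line_ok : ∀ j : Fin 126, ∀ i : Fin 3, ent (lineCode j) i.val < 25 := by decide +kernel

theorem line_normed : ∀ j : Fin 126, normed (lineCode j) = true := by decide +kernel

theorem line_inj : ∀ a b : Fin 126,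
    (∀ i : Fin 3, ent (lineCode a) i.val = ent (lineCode b) i.val) → a = b := by decide +kernel

theorem scal_ok : ∀ l : Fin 2, ∀ j : Fin 126, scal l j ≠ 0 ∧ scal l j < 25 := by decide +kernel

theorem act_ok : ∀ l : Fin 2, ∀ j : Fin 126, ∀ i : Fin 3,
    mvCode (matCode l) (lineCode j) i.val = fmul (scal l j) (ent (lineCode (sigma l j)) i.val) := by
  decide +kernel

theorem plane_ok : [ent (lineCode 1) 0, ent (lineCode 1) 1, ent (lineCode 1) 2] = [1, 21, 0] ∧
    [ent (lineCode 22) 0, ent (lineCode 22) 1, ent (lineCode 22) 2] = [1, 24, 0] ∧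
    [ent (lineCode 44) 0, ent (lineCode 44) 1, ent (lineCode 44) 2] = [1, 6, 0] ∧
    [ent (lineCode 55) 0, ent (lineCode 55) 1, ent (lineCode 55) 2] = [0, 1, 21] ∧
    [ent (lineCode 78) 0, ent (lineCode 78) 1, ent (lineCode 78) 2] = [0, 1, 2] ∧
    [ent (lineCode 88) 0, ent (lineCode 88) 1, ent (lineCode 88) 2] = [0, 1, 3] := by decide +kernel

section Field

variable {F : Type*} [Field F] [CharP F 5] {r : F} (hr : r ^ 2 = 2)

/-- The isotropic vector of a point. -/
noncomputable def line (r : F) (j : Fin 126) : Fin 3 → F := fun i => φ r (ent (lineCode j) i.val)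

omit [CharP F 5] in
theorem φ_zero : φ r 0 = 0 := by simp [φ]

omit [CharP F 5] in
theorem φ_one : φ r 1 = 1 := by simp [φ]

include hr in
theorem scal_ne (l : Fin 2) (j : Fin 126) : φ r (scal l j) ≠ 0 := fun h =>
  (scal_ok l j).1 (φ_inj hr (scal_ok l j).2 (by norm_num) (h.trans φ_zero.symm))

include hr in
theorem mulVec_line (l : Fin 2) (j : Fin 126) :
    mat r (matCode l) *ᵥ line r j = φ r (scal l j) • line r (sigma l j) := by
  funext i
  have hc := (mat_ok l).1
  have hi := i.isLt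
  have l0 : ent (lineCode j) 0 < 25 := line_ok j 0
  have l1 : ent (lineCode j) 1 < 25 := line_ok j 1
  have l2 : ent (lineCode j) 2 < 25 := line_ok j 2
  obtain ⟨a1, e1⟩ := φ_mul hr (coded_lt hc (show 3 * i.val < 9 by omega)) l0
  obtain ⟨a2, e2⟩ := φ_mul hr (coded_lt hc (show 3 * i.val + 1 < 9 by omega)) l1
  obtain ⟨a3, e3⟩ := φ_mul hr (coded_lt hc (show 3 * i.val + 2 < 9 by omega)) l2
  obtain ⟨a4, e4⟩ := φ_add (r := r) a1 a2
  obtain ⟨-, e5⟩ := φ_add (r := r) a4 a3
  have h := congrArg (φ r) (act_ok l j i)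
  rw [mvCode, e5, e4, e1, e2, e3, (φ_mul hr (scal_ok l j).2 (line_ok _ i)).2] at h
  simpa [Matrix.mulVec, dotProduct, Fin.sum_univ_three, mat, line] using h

include hr in
theorem line_smul_inj {a b : Fin 126} {c : F} (h : line r a = c • line r b) : a = b := by
  have key : ∀ i : Fin 3, φ r (ent (lineCode a) i.val) = c * φ r (ent (lineCode b) i.val) := fun i =>
    congrFun h i
  have hn : ∀ j : Fin 126, φ r (ent (lineCode j) 0) = 1 ∨
      (φ r (ent (lineCode j) 0) = 0 ∧ φ r (ent (lineCode j) 1) = 1) := by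
    intro j
    have := line_normed j
    rw [normed] at this
    cases h1 : Nat.beq (ent (lineCode j) 0) 1
    · rw [h1, cond_false, cond_false_eq_true] at this
      rw [Nat.eq_of_beq_eq_true this.1, Nat.eq_of_beq_eq_true this.2]
      exact Or.inr ⟨φ_zero, φ_one⟩
    · rw [Nat.eq_of_beq_eq_true h1]; exact Or.inl φ_one
  have k0 : φ r (ent (lineCode a) 0) = c * φ r (ent (lineCode b) 0) := key 0
  have k1 : φ r (ent (lineCode a) 1) = c * φ r (ent (lineCode b) 1) := key 1
  have hc : c = 1 := by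
    rcases hn b with hb | ⟨hb0, hb1⟩
    · rcases hn a with ha | ⟨ha0, ha1⟩
      · rw [ha, hb, mul_one] at k0; exact k0.symm
      · rw [ha0, hb, mul_one] at k0
        rw [ha1, ← k0, zero_mul] at k1
        exact absurd k1 one_ne_zero
    · rcases hn a with ha | ⟨ha0, ha1⟩
      · rw [ha, hb0, mul_zero] at k0; exact absurd k0 one_ne_zero
      · rw [ha1, hb1, mul_one] at k1; exact k1.symm
  exact line_inj a b fun i => φ_inj hr (line_ok a i) (line_ok b i) (by rw [key i, hc, one_mul])

omit [CharP F 5] in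
theorem quad_three {A B C x y z : F} (hxy : x ≠ y) (hxz : x ≠ z) (hyz : y ≠ z)
    (h1 : A * x * x + B * x + C = 0) (h2 : A * y * y + B * y + C = 0) (h3 : A * z * z + B * z + C = 0) :
    A = 0 ∧ B = 0 ∧ C = 0 := by
  have e1 : (x - y) * (A * (x + y) + B) = 0 := by linear_combination h1 - h2
  have e2 : (x - z) * (A * (x + z) + B) = 0 := by linear_combination h1 - h3
  have f1 := (mul_eq_zero.mp e1).resolve_left (sub_ne_zero.mpr hxy)
  have f2 := (mul_eq_zero.mp e2).resolve_left (sub_ne_zero.mpr hxz)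
  have hA : A = 0 := (mul_eq_zero.mp (show (y - z) * A = 0 by linear_combination f1 - f2)).resolve_left
    (sub_ne_zero.mpr hyz)
  have hB : B = 0 := by rw [hA] at f1; linear_combination f1
  refine ⟨hA, hB, ?_⟩
  rw [hA, hB] at h1
  linear_combination h1

include hr in
/-- A matrix fixing all the lines is scalar. -/
theorem scalar_of_fix {M : Matrix (Fin 3) (Fin 3) F} (h : ∀ j, ∃ c : F, M *ᵥ line r j = c • line r j) :
    M = M 0 0 • (1 : Matrix (Fin 3) (Fin 3) F) := by
  obtain ⟨p1, p2, p3, q1, q2, q3⟩ := plane_ok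
  simp only [List.cons.injEq, and_true] at p1 p2 p3 q1 q2 q3
  have hne : ∀ a b : Nat, a < 25 → b < 25 → a ≠ b → φ r a ≠ φ r b := fun a b ha hb hab e =>
    hab (φ_inj hr ha hb e)
  have planeA : ∀ (j : Fin 126) (t : Nat), ent (lineCode j) 0 = 1 ∧ ent (lineCode j) 1 = t ∧
      ent (lineCode j) 2 = 0 → M 2 0 + φ r t * M 2 1 = 0 ∧
        M 0 1 * φ r t * φ r t + (M 0 0 - M 1 1) * φ r t + -M 1 0 = 0 := by
    rintro j t ⟨h0, h1, h2⟩
    obtain ⟨c, hc⟩ := h j
    have e0 := congrFun hc 0
    have e1 := congrFun hc 1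
    have e2 := congrFun hc 2
    simp [Matrix.mulVec, dotProduct, Fin.sum_univ_three, line, h0, h1, h2, φ_zero, φ_one] at e0 e1 e2
    refine ⟨by linear_combination e2, ?_⟩
    rw [← e0] at e1
    linear_combination -e1
  have planeB : ∀ (j : Fin 126) (t : Nat), ent (lineCode j) 0 = 0 ∧ ent (lineCode j) 1 = 1 ∧
      ent (lineCode j) 2 = t → M 0 1 + φ r t * M 0 2 = 0 ∧
        M 1 2 * φ r t * φ r t + (M 1 1 - M 2 2) * φ r t + -M 2 1 = 0 := by
    rintro j t ⟨h0, h1, h2⟩
    obtain ⟨c, hc⟩ := h j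
    have e0 := congrFun hc 0
    have e1 := congrFun hc 1
    have e2 := congrFun hc 2
    simp [Matrix.mulVec, dotProduct, Fin.sum_univ_three, line, h0, h1, h2, φ_zero, φ_one] at e0 e1 e2
    refine ⟨by linear_combination e0, ?_⟩
    rw [← e1] at e2
    linear_combination -e2
  obtain ⟨a1, b1⟩ := planeA 1 21 p1
  obtain ⟨a2, b2⟩ := planeA 22 24 p2
  obtain ⟨-, b3⟩ := planeA 44 6 p3
  obtain ⟨c1, d1⟩ := planeB 55 21 q1
  obtain ⟨c2, d2⟩ := planeB 78 2 q2
  obtain ⟨-, d3⟩ := planeB 88 3 q3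
  have n1 : φ r 21 ≠ φ r 24 := hne _ _ (by norm_num) (by norm_num) (by norm_num)
  have n2 : φ r 21 ≠ φ r 6 := hne _ _ (by norm_num) (by norm_num) (by norm_num)
  have n3 : φ r 24 ≠ φ r 6 := hne _ _ (by norm_num) (by norm_num) (by norm_num)
  have m1 : φ r 21 ≠ φ r 2 := hne _ _ (by norm_num) (by norm_num) (by norm_num)
  have m2 : φ r 21 ≠ φ r 3 := hne _ _ (by norm_num) (by norm_num) (by norm_num)
  have m3 : φ r 2 ≠ φ r 3 := hne _ _ (by norm_num) (by norm_num) (by norm_num)
  obtain ⟨h01, hd, h10⟩ := quad_three n1 n2 n3 b1 b2 b3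
  obtain ⟨h12, hd', h21⟩ := quad_three m1 m2 m3 d1 d2 d3
  have h21' : M 2 1 = 0 := (mul_eq_zero.mp
    (show (φ r 21 - φ r 24) * M 2 1 = 0 by linear_combination a1 - a2)).resolve_left (sub_ne_zero.mpr n1)
  have h20 : M 2 0 = 0 := by rw [h21'] at a1; linear_combination a1
  have h02 : M 0 2 = 0 := (mul_eq_zero.mp
    (show (φ r 21 - φ r 2) * M 0 2 = 0 by linear_combination c1 - c2)).resolve_left (sub_ne_zero.mpr m1)
  have h11 : M 1 1 = M 0 0 := (sub_eq_zero.mp hd).symm
  have h22 : M 2 2 = M 0 0 := by rw [← h11]; exact (sub_eq_zero.mp hd').symm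
  have h10' : M 1 0 = 0 := neg_eq_zero.mp h10
  ext i k
  fin_cases i <;> fin_cases k <;> simp [h01, h10', h12, h21', h20, h02, h11, h22]

end Field

end Cfsg.Agent.HS352
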