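import Cfsg.Agent.HS352.Word
import Cfsg.Agent.HS352.Unitary

/-!
# The Higman–Sims group on 352 points
-/

set_option autoImplicit false
set_option maxRecDepth 100000
set_option linter.style.haveILetI false
set_option linter.unusedSectionVars false

namespace Cfsg.Agent.HS352

open Cfsg CfsgLib CfsgLib.Golay CfsgLib.Unitary MulAction HSGraph Co3Rank Matrix

attribute [local irreducible] CfsgLib.Leech.shortVecs CfsgLib.Leech.halfTable CfsgLib.Leech.quarterTable

/-- The coordinates of a representative. -/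
def repL (j : Fin 126) : List ℤ := pairReps.getD j.val []

/-- The coordinates of the partner. -/
def partL (j : Fin 126) : List ℤ := (List.range 24).map fun i => -Spor.vecV (pt i) - (repL j).getD i 0

theorem base_test : Leech.LeechTest (fun p => baseA.getD (idx p) 0) := by decide +kernel

theorem reps_test : ∀ j : Fin 126, Leech.LeechTest (fun p => (repL j).getD (idx p) 0) := by decide +kernel

theorem reps_len : ∀ j : Fin 126, (repL j).length = 24 := by decide +kernel

theorem word_base : ∀ l : Fin 2, run (genWords.getD l.val []) baseA = baseA := by decide +kernel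

theorem word_rep : ∀ l : Fin 2, ∀ j : Fin 126,
    run (genWords.getD l.val []) (repL j) = repL (sigma l j) ∨
      run (genWords.getD l.val []) (repL j) = partL (sigma l j) := by decide +kernel

theorem rep_inj : ∀ a b : Fin 126, (repL a = repL b ∨ repL a = partL b) → a = b := by decide +kernel

/-- The base point. -/
def y0 : leechLattice := ⟨_, Leech.mem_of_test base_test⟩

/-- A representative. -/
def rep (j : Fin 126) : leechLattice := ⟨_, Leech.mem_of_test (reps_test j)⟩

theorem coords_y0 : coords y0 = baseA := by decide +kernel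

theorem coords_rep (j : Fin 126) : coords (rep j) = repL j := by
  refine List.ext_getElem (by simp [coords, McLSimple.toL, reps_len]) fun i h1 h2 => ?_
  have hi : i < 24 := by simpa [coords, McLSimple.toL] using h1
  simp only [coords, McLSimple.toL, List.getElem_map, List.getElem_range, rep, idx_pt i hi]
  exact List.getD_eq_getElem _ _ h2

theorem coords_part (j : Fin 126) : coords (-Spor.leechV - rep j) = partL j := by
  refine List.ext_getElem (by simp [coords, McLSimple.toL, partL]) fun i h1 h2 => ?_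
  have hi : i < 24 := by simpa [coords, McLSimple.toL] using h1
  simp only [coords, McLSimple.toL, List.getElem_map, List.getElem_range, partL]
  show -Spor.vecV (pt i) - (repL j).getD (idx (pt i)) 0 = _
  rw [idx_pt i hi]

/-- The point stabiliser. -/
def S0 : Subgroup Co0 := Lat.pairStab ⊓ stabilizer Co0 y0

theorem inS_y0 : InS (-2) (y0 : GolayPt → ℤ) := by unfold InS; decide +kernel

theorem orbit_y0 : orbit Lat.pairStab y0 = sSet (-2) := by
  obtain ⟨z, -, o⟩ := exists_orbit (e := -2) checkA count_values.1 (by decide +kernel) (by decide +kernel)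
    (by unfold InS; decide +kernel)
  rw [← o]
  exact orbit_eq_iff.mpr (o ▸ (inS_y0 : y0 ∈ sSet (-2)))

theorem card_S0 : Nat.card S0 = 126000 := by
  have h := (stabilizer Lat.pairStab y0).card_mul_index
  rw [index_stabilizer, orbit_y0, ncard_sSet, count_values.1, Lat.card_pairStab] at h
  have e : Nat.card S0 = Nat.card (stabilizer Lat.pairStab y0) :=
    Nat.card_congr
      { toFun := fun k => ⟨⟨k, k.2.1⟩, k.2.2⟩
        invFun := fun k => ⟨k.1, k.1.2, k.2⟩
        left_inv := fun _ => rfl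
        right_inv := fun _ => rfl }
  omega

section Field

variable {F : Type} [Field F] [Finite F] [CharP F 5] {r : F}

local notation "SU3" => Cfsg.SU 3 F 5

/-- Compatible pairs. -/
def Compat (r : F) (x : Co0 × SU3) : Prop :=
  x.1 ∈ S0 ∧ ∀ j : Fin 126, ∃ (q : Fin 126) (c : F), c ≠ 0 ∧
    (x.1 • rep j = rep q ∨ x.1 • rep j = -Spor.leechV - rep q) ∧
    suMat x.2 *ᵥ line r j = c • line r q

theorem Compat.mul' {x y : Co0 × SU3} (hx : Compat r x) (hy : Compat r y) : Compat r (x * y) := by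
  refine ⟨mul_mem hx.1 hy.1, fun j => ?_⟩
  obtain ⟨a, c, hc, hp, hv⟩ := hy.2 j
  obtain ⟨b, d, hd, hp', hv'⟩ := hx.2 a
  refine ⟨b, c * d, mul_ne_zero hc hd, ?_, ?_⟩
  · have hV : x.1 • Spor.leechV = Spor.leechV := hx.1.1.1
    rw [Prod.fst_mul, mul_smul]
    rcases hp with hp | hp <;> rcases hp' with hp' | hp'
    · exact Or.inl (by rw [hp, hp'])
    · exact Or.inr (by rw [hp, hp'])
    · exact Or.inr (by rw [hp, Leech.smul_sub', Leech.smul_neg', hV, hp'])
    · exact Or.inl (by rw [hp, Leech.smul_sub', Leech.smul_neg', hV, hp']; abel)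
  · rw [Prod.snd_mul, suMat_mul, ← Matrix.mulVec_mulVec, hv, Matrix.mulVec_smul, hv', smul_smul]

theorem compat_one : Compat r (1 : Co0 × SU3) :=
  ⟨one_mem _, fun j => ⟨j, 1, one_ne_zero, Or.inl (one_smul _ _), by simp [CfsgLib.Unitary.suMat_one]⟩⟩

/-- Follow a word. -/
def follow : List ℕ → Fin 126 → Fin 126
  | [], j => j
  | k :: w, j => sigma (Fin.ofNat 2 k) (follow w j)

theorem move_ok : ∀ i : Fin 126, follow (moveWords.getD i.val []) 0 = i := by decide +kernel

theorem fix_ok : ∀ i : Fin 125, follow (fixWords.getD i.val []) 0 = 0 ∧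
    (follow (fixWords.getD i.val []) 1).val = i.val + 1 := by decide +kernel

theorem nonempty_equiv (hr : r ^ 2 = 2) (hF : Nat.card F = 5 ^ 2) :
    Nonempty (S0 ≃* Cfsg.PSU 3 F 5) := by
  classical
  haveI : Fintype F := Fintype.ofFinite F
  have hgen : ∀ l : Fin 2, ∃ x : Co0 × SU3, Compat r x ∧
      ∀ j, ∃ c : F, c ≠ 0 ∧ suMat x.2 *ᵥ line r j = c • line r (sigma l j) := by
    intro l
    obtain ⟨g, hg, hgy⟩ := exists_run (genWords.getD l.val [])
    obtain ⟨hc, hu, hd⟩ := mat_ok l
    obtain ⟨A, hA⟩ := CfsgLib.U35.exists_gen hr hF hc hu (by rw [CfsgLib.U35.det_eq hr hc, hd, φ_one])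
    have hl : ∀ j, suMat A *ᵥ line r j = CfsgLib.U35.φ r (scal l j) • line r (sigma l j) := fun j => by
      rw [hA, mulVec_line hr]
    refine ⟨(g, A), ⟨⟨hg, coords_injective ?_⟩, fun j => ⟨sigma l j, _, scal_ne hr l j, ?_, hl j⟩⟩,
      fun j => ⟨_, scal_ne hr l j, hl j⟩⟩
    · show coords (g • y0) = coords y0
      rw [hgy, coords_y0, word_base l]
    · rcases word_rep l j with h | h
      · exact Or.inl (coords_injective (by rw [hgy, coords_rep, coords_rep, h]))
      · exact Or.inr (coords_injective (by rw [hgy, coords_rep, coords_part, h]))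
  choose gx hgx hgl using hgen
  set Γ : Subgroup (Co0 × SU3) := Subgroup.closure (Set.range gx) with hΓ
  have hcompat : ∀ x ∈ Γ, Compat r x := by
    intro x hx
    have h : x ∈ Submonoid.closure (Set.range gx) := by
      rw [← Subgroup.closure_toSubmonoid_of_finite]; exact hx
    induction h using Submonoid.closure_induction with
    | mem y hy => obtain ⟨l, rfl⟩ := hy; exact hgx l
    | one => exact compat_one
    | mul a b ha hb iha ihb =>
      exact (iha (Subgroup.le_closure_toSubmonoid _ ha)).mul' (ihb (Subgroup.le_closure_toSubmonoid _ hb))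
  set K : Subgroup Co0 := Γ.map (MonoidHom.fst Co0 SU3) with hK
  set H : Subgroup SU3 := Γ.map (MonoidHom.snd Co0 SU3) with hH
  have hKle : K ≤ S0 := by
    rintro _ ⟨x, hx, rfl⟩
    exact (hcompat x hx).1
  let π : SU3 →* Cfsg.PSU 3 F 5 := QuotientGroup.mk' (Subgroup.center SU3)
  have hwell : ∀ s : SU3, ((1 : Co0), s) ∈ Γ → π s = 1 := by
    intro s hs
    refine (QuotientGroup.eq_one_iff _).mpr
      ((CfsgLib.Unitary.mem_center_SU_iff hF (by norm_num)).mpr ⟨_, scalar_of_fix hr fun j => ?_⟩)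
    obtain ⟨q, c, -, hp, hv⟩ := (hcompat _ hs).2 j
    have hjq : j = q := by
      refine rep_inj j q ?_
      rcases hp with hp | hp
      · rw [one_smul] at hp; exact Or.inl (by rw [← coords_rep, hp, coords_rep])
      · rw [one_smul] at hp; exact Or.inr (by rw [← coords_rep, hp, coords_part])
    exact ⟨c, by rw [hjq]; rw [hjq] at hv; exact hv⟩
  have hex : ∀ k : K, ∃ s : SU3, ((k : Co0), s) ∈ Γ := by
    rintro ⟨_, ⟨a, b⟩, hab, rfl⟩
    exact ⟨b, hab⟩
  choose sf hsf using hex
  have hθ : ∀ (k : K) (s : SU3), ((k : Co0), s) ∈ Γ → π (sf k) = π s := by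
    intro k s hs
    have := hwell _ (by
      have := mul_mem (inv_mem (hsf k)) hs
      rwa [Prod.inv_mk, Prod.mk_mul_mk, inv_mul_cancel] at this : ((1 : Co0), (sf k)⁻¹ * s) ∈ Γ)
    rwa [map_mul, map_inv, inv_mul_eq_one] at this
  let θ : K →* Cfsg.PSU 3 F 5 := MonoidHom.mk' (fun k => π (sf k)) (fun a b => by
    rw [← map_mul]
    exact hθ (a * b) _ (by
      have := mul_mem (hsf a) (hsf b)
      rwa [Prod.mk_mul_mk] at this))
  -- the second projection is large
  have hword : ∀ w : List ℕ, ∃ h ∈ H, ∀ j, ∃ c : F, c ≠ 0 ∧ suMat h *ᵥ line r j = c • line r (follow w j) := by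
    intro w
    induction w with
    | nil => exact ⟨1, one_mem _, fun j => ⟨1, one_ne_zero, by simp [follow, CfsgLib.Unitary.suMat_one]⟩⟩
    | cons k w ih =>
      obtain ⟨h, hh, hhl⟩ := ih
      refine ⟨(gx (Fin.ofNat 2 k)).2 * h, mul_mem ⟨gx _, Subgroup.subset_closure ⟨_, rfl⟩, rfl⟩ hh, fun j => ?_⟩
      obtain ⟨c, hc, hcl⟩ := hhl j
      obtain ⟨d, hd, hdl⟩ := hgl (Fin.ofNat 2 k) (follow w j)
      exact ⟨c * d, mul_ne_zero hc hd, by
        rw [suMat_mul, ← Matrix.mulVec_mulVec, hcl, Matrix.mulVec_smul, hdl, smul_smul]; rfl⟩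
  have huniq : ∀ {u : SU3} {j a b : Fin 126} {c d : F}, c ≠ 0 → suMat u *ᵥ line r j = c • line r a →
      suMat u *ᵥ line r j = d • line r b → a = b := by
    intro u j a b c d hc h1 h2
    refine line_smul_inj hr (c := c⁻¹ * d) ?_
    rw [← smul_smul, ← h2, h1, smul_smul, inv_mul_cancel₀ hc, one_smul]
  choose mw hmw hmwl using fun i : Fin 126 => hword (moveWords.getD i.val [])
  choose fw hfw hfwl using fun i : Fin 125 => hword (fixWords.getD i.val [])
  let f : Fin 126 × Fin 125 → H := fun p => ⟨mw p.1 * fw p.2, mul_mem (hmw _) (hfw _)⟩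
  have hline : ∀ (i : Fin 126) (k : Fin 125) (j : Fin 126), ∃ c : F, c ≠ 0 ∧
      suMat (mw i * fw k) *ᵥ line r j =
        c • line r (follow (moveWords.getD i.val []) (follow (fixWords.getD k.val []) j)) := by
    intro i k j
    obtain ⟨c, hc, h1⟩ := hfwl k j
    obtain ⟨d, hd, h2⟩ := hmwl i (follow (fixWords.getD k.val []) j)
    exact ⟨c * d, mul_ne_zero hc hd, by
      rw [suMat_mul, ← Matrix.mulVec_mulVec, h1, Matrix.mulVec_smul, h2, smul_smul]⟩
  have hf : Function.Injective f := by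
    rintro ⟨i, k⟩ ⟨i', k'⟩ h
    have h' : mw i * fw k = mw i' * fw k' := congrArg Subtype.val h
    obtain ⟨c, hc, e1⟩ := hline i k 0
    obtain ⟨d, -, e2⟩ := hline i' k' 0
    rw [(fix_ok k).1, move_ok] at e1
    rw [(fix_ok k').1, move_ok, ← h'] at e2
    obtain rfl := huniq hc e1 e2
    rw [mul_right_inj] at h'
    obtain ⟨c, hc, e1⟩ := hfwl k 1
    obtain ⟨d, -, e2⟩ := hfwl k' 1
    rw [← h'] at e2
    have h3 := (fix_ok k).2
    rw [huniq hc e1 e2, (fix_ok k').2] at h3
    exact Prod.ext rfl (Fin.ext (by simpa using h3.symm))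
  haveI : Finite SU3 := inferInstance
  have hHcard : 15750 ≤ Nat.card H := by
    have := Nat.card_le_card_of_injective f hf
    simpa using this
  have htop : H.map π = ⊤ := by
    by_contra hne
    have h50 := (Cfsg.Agent.S2149.result (F := F) (by rw [← Nat.card_eq_fintype_card, hF]; rfl)).1 _ hne
    have h1 := (H.map π).card_mul_index
    rw [CfsgLib.U35.card_psu hF] at h1
    have h2 := (π.comp H.subtype).ker.card_mul_index
    rw [Subgroup.index_ker, MonoidHom.range_comp, Subgroup.range_subtype] at h2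
    have h3 : Nat.card (π.comp H.subtype).ker ≤ 3 := by
      have hc : Nat.card (Subgroup.center SU3) = 3 := by
        rw [CfsgLib.Unitary.card_center_SU hF (by norm_num)]; rfl
      refine le_of_le_of_eq ?_ hc
      exact Nat.card_le_card_of_injective
        (fun x => (⟨x.1.1, (QuotientGroup.eq_one_iff _).mp x.2⟩ : Subgroup.center SU3))
        fun a b hab => Subtype.ext (Subtype.ext (congrArg (fun z : Subgroup.center SU3 => (z : SU3)) hab))
    nlinarith
  have hsurj : Function.Surjective θ := by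
    intro t
    obtain ⟨_, ⟨⟨k, s⟩, hks, rfl⟩, rfl⟩ : t ∈ H.map π := htop ▸ Subgroup.mem_top t
    exact ⟨⟨k, ⟨(k, s), hks, rfl⟩⟩, hθ ⟨k, _⟩ s hks⟩
  have hge : Nat.card S0 ≤ Nat.card K := by
    rw [card_S0, ← CfsgLib.U35.card_psu hF]
    exact Nat.card_le_card_of_surjective θ hsurj
  have hKeq : K = S0 := Subgroup.eq_of_le_of_card_ge hKle hge
  have hbij : Function.Bijective θ := (Nat.bijective_iff_surjective_and_card θ).mpr ⟨hsurj, by
    rw [CfsgLib.U35.card_psu hF, ← card_S0, hKeq]⟩
  exact ⟨(MulEquiv.subgroupCongr hKeq.symm).trans (MulEquiv.ofBijective θ hbij)⟩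

end Field

/-- The 352 points. -/
def Cond (v w x : leechLattice) : Prop :=
  sqNorm (x : GolayPt → ℤ) = 32 ∧ dotInt (v : GolayPt → ℤ) (x : GolayPt → ℤ) = 16 ∧
    dotInt (w : GolayPt → ℤ) (x : GolayPt → ℤ) = -24

theorem dot_add_right (a b c : GolayPt → ℤ) : dotInt a (b + c) = dotInt a b + dotInt a c := by
  simp [dotInt, mul_add, Finset.sum_add_distrib]

theorem dot_neg_right (a b : GolayPt → ℤ) : dotInt a (-b) = -dotInt a b := by
  simp [dotInt, Finset.sum_neg_distrib]

theorem dot_neg_left (a b : GolayPt → ℤ) : dotInt (-a) b = -dotInt a b := by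
  simp [dotInt, Finset.sum_neg_distrib]

theorem dot_add_left (a b c : GolayPt → ℤ) : dotInt (a + b) c = dotInt a c + dotInt b c := by
  simp [dotInt, add_mul, Finset.sum_add_distrib]

theorem sqNorm_eq_dot (a : GolayPt → ℤ) : sqNorm a = dotInt a a := by
  simp [sqNorm, dotInt, sq]

variable {v w : leechLattice} (hv : sqNorm (v : GolayPt → ℤ) = 48)
  (hw : sqNorm (w : GolayPt → ℤ) = 48) (hvw : dotInt (v : GolayPt → ℤ) (w : GolayPt → ℤ) = -32)
include hv hw hvw

theorem main : {x : leechLattice | Cond v w x}.ncard = 352 ∧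
    (∀ x, Cond v w x → Cond v w (-w - x)) ∧
    (∀ x, Cond v w x → ∀ x', Cond v w x' → ∃ g : Co0, g • v = v ∧ g • w = w ∧ g • x = x') ∧
    ∀ (F : Type) [Field F] [Fintype F], Fintype.card F = 25 → ∀ x, Cond v w x →
      Nonempty (↥(stabilizer Co0 v ⊓ stabilizer Co0 w ⊓ stabilizer Co0 x) ≃* Cfsg.PSU 3 F 5) := by
  obtain ⟨g, hgv, hgx⟩ := Lat.exists_to_pair hv hw hvw
  have hiff : ∀ k : Co0, k ∈ stabilizer Co0 v ⊓ stabilizer Co0 w ↔ g * k * g⁻¹ ∈ Lat.pairStab := fun k => by
    simp only [Lat.pairStab, Subgroup.mem_inf, mem_stabilizer_iff, ← hgv, ← hgx, mul_smul, inv_smul_smul,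
      smul_left_cancel_iff, Leech.smul_neg', Leech.smul_add', neg_inj]
    exact and_congr_right fun h => by rw [h, add_right_inj, smul_left_cancel_iff]
  let e : leechLattice ≃ leechLattice :=
    { toFun := fun x => -(g • x)
      invFun := fun y => g⁻¹ • (-y)
      left_inv := fun x => by simp
      right_inv := fun y => by simp }
  have htr : ∀ x, Cond v w x ↔ e x ∈ sSet (-2) := by
    intro x
    show _ ↔ InS (-2) ((-(g • x) : leechLattice) : GolayPt → ℤ)
    rw [inS_iff]
    have e1 : dotInt Spor.vecV ((-(g • x) : leechLattice) : GolayPt → ℤ) =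
        -dotInt (v : GolayPt → ℤ) (x : GolayPt → ℤ) := by
      rw [AddSubgroup.coe_neg, dot_neg_right, ← Leech.dot_smul' g v x, hgv]
      rfl
    have e2 : dotInt Spor.vecU' ((-(g • x) : leechLattice) : GolayPt → ℤ) =
        dotInt (v : GolayPt → ℤ) (x : GolayPt → ℤ) + dotInt (w : GolayPt → ℤ) (x : GolayPt → ℤ) := by
      have h := Leech.dot_smul' g (-(v + w)) x
      rw [hgx] at h
      rw [AddSubgroup.coe_neg, dot_neg_right, show dotInt Spor.vecU' ((g • x : leechLattice) : GolayPt → ℤ) = _ from h,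
        AddSubgroup.coe_neg, AddSubgroup.coe_add, dot_neg_left, dot_add_left, neg_neg]
    have e3 : sqNorm ((-(g • x) : leechLattice) : GolayPt → ℤ) = sqNorm (x : GolayPt → ℤ) := by
      rw [AddSubgroup.coe_neg, ← Leech.sqNorm_smul g x]
      simp [sqNorm]
    rw [e1, e2, e3]
    unfold Cond
    constructor <;> rintro ⟨h1, h2, h3⟩ <;> exact ⟨h1, by omega, by omega⟩
  refine ⟨?_, ?_, ?_, ?_⟩
  · rw [show {x : leechLattice | Cond v w x} = e ⁻¹' sSet (-2) from Set.ext htr,
      Set.ncard_preimage_of_injective_subset_range e.injective (fun y _ => ⟨e.symm y, e.apply_symm_apply y⟩),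
      ncard_sSet, count_values.1]
  · rintro x ⟨h1, h2, h3⟩
    have hwv : dotInt (w : GolayPt → ℤ) (v : GolayPt → ℤ) = -32 := by rw [Lat.dot_comm]; exact hvw
    have hxw : dotInt (x : GolayPt → ℤ) (w : GolayPt → ℤ) = -24 := by rw [Lat.dot_comm]; exact h3
    have hww : dotInt (w : GolayPt → ℤ) (w : GolayPt → ℤ) = 48 := by rw [← sqNorm_eq_dot]; exact hw
    have hxx : dotInt (x : GolayPt → ℤ) (x : GolayPt → ℤ) = 32 := by rw [← sqNorm_eq_dot]; exact h1
    have hc : ((-w - x : leechLattice) : GolayPt → ℤ) = -(w : GolayPt → ℤ) + -(x : GolayPt → ℤ) := by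
      simp [sub_eq_add_neg]
    refine ⟨?_, ?_, ?_⟩
    · rw [sqNorm_eq_dot, hc]
      simp only [dot_add_right, dot_add_left, dot_neg_right, dot_neg_left, hww, hxx, hxw, h3]
      norm_num
    · rw [hc]; simp only [dot_add_right, dot_neg_right, hvw, h2]; norm_num
    · rw [hc]; simp only [dot_add_right, dot_neg_right, hww, h3]; norm_num
  · intro x hx x' hx'
    have hmem : ∀ z, Cond v w z → e z ∈ orbit Lat.pairStab y0 := fun z hz => orbit_y0 ▸ (htr z).mp hz
    obtain ⟨a, ha⟩ := hmem x hx
    obtain ⟨b, hb⟩ := hmem x' hx'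
    have hk : g⁻¹ * ((b * a⁻¹ : Lat.pairStab) : Co0) * g ∈ stabilizer Co0 v ⊓ stabilizer Co0 w :=
      (hiff _).mpr (by simpa [mul_assoc] using (b * a⁻¹).2)
    refine ⟨_, hk.1, hk.2, ?_⟩
    have h : ((b * a⁻¹ : Lat.pairStab) : Co0) • e x = e x' := by
      rw [← ha, ← hb]
      show (b * a⁻¹) • a • y0 = b • y0
      rw [mul_smul, inv_smul_smul]
    refine e.injective ?_
    show -(g • _) = _
    rw [mul_smul, mul_smul, smul_inv_smul, ← Leech.smul_neg']
    exact h
  · intro F _ _ hcard x hx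
    haveI : Fact (Nat.Prime 5) := ⟨by norm_num⟩
    have hF : Nat.card F = 5 ^ 2 := by rw [Nat.card_eq_fintype_card, hcard]; rfl
    haveI : CharP F 5 := by
      obtain ⟨p, hc⟩ := CharP.exists F
      obtain ⟨k, hp, hk⟩ := FiniteField.card F p
      rw [hcard] at hk
      have h5 : p = 5 := (Nat.prime_dvd_prime_iff_eq hp (by norm_num)).mp
        (hp.dvd_of_dvd_pow (n := 2) (by
          rw [show (5 : ℕ) ^ 2 = 25 by norm_num, hk]
          exact dvd_pow_self p k.pos.ne'))
      exact h5 ▸ hc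
    obtain ⟨r, hr⟩ : ∃ r : F, r ^ 2 = 2 := by
      have h2 : IsSquare (2 : F) := by
        rw [FiniteField.isSquare_iff (by rw [ringChar.eq F 5]; norm_num)
          (by rw [show (2 : F) = ((2 : ℕ) : F) by norm_num, Ne, CharP.cast_eq_zero_iff F 5]; norm_num),
          hcard, show (2 : F) = ((2 : ℕ) : F) by norm_num, ← Nat.cast_pow, ← Nat.cast_one,
          CharP.natCast_eq_natCast F 5]
        decide
      obtain ⟨r, hr⟩ := h2
      exact ⟨r, by rw [hr]; ring⟩
    obtain ⟨E⟩ := nonempty_equiv hr hF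
    obtain ⟨a, ha⟩ : e x ∈ orbit Lat.pairStab y0 := orbit_y0 ▸ (htr x).mp hx
    set t : Co0 := (a : Co0)⁻¹ * g
    have hneg : (t : Co0) • x = -y0 := by
      rw [show y0 = (a : Co0)⁻¹ • e x by rw [← ha]; exact (inv_smul_smul _ y0).symm]
      show ((a : Co0)⁻¹ * g) • x = -((a : Co0)⁻¹ • (-(g • x)))
      rw [mul_smul, Leech.smul_neg', neg_neg]
    have hconj : ∀ k : Co0, k ∈ stabilizer Co0 v ⊓ stabilizer Co0 w ⊓ stabilizer Co0 x ↔
        t * k * t⁻¹ ∈ S0 := by
      intro k
      simp only [S0, Subgroup.mem_inf]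
      refine and_congr ?_ ?_
      · rw [show t * k * t⁻¹ = (a : Co0)⁻¹ * (g * k * g⁻¹) * (a : Co0) by simp [t, mul_assoc],
          ← Subgroup.mem_inf]
        rw [hiff]
        exact ((Lat.pairStab.mul_mem_cancel_right a.2).trans
          (Lat.pairStab.mul_mem_cancel_left (inv_mem a.2))).symm
      · rw [mem_stabilizer_iff, mem_stabilizer_iff, show y0 = -(t • x) by rw [hneg, neg_neg], Leech.smul_neg',
          neg_inj, mul_smul, mul_smul, inv_smul_smul, smul_left_cancel_iff]
    exact ⟨({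
      toFun := fun k => ⟨t * k * t⁻¹, (hconj k).mp k.2⟩
      invFun := fun k => ⟨t⁻¹ * k * t, (hconj _).mpr (by simp [mul_assoc])⟩
      left_inv := fun k => Subtype.ext (by simp [mul_assoc])
      right_inv := fun k => Subtype.ext (by simp [mul_assoc])
      map_mul' := fun a b => Subtype.ext (by simp [mul_assoc]) } :
      ↥(stabilizer Co0 v ⊓ stabilizer Co0 w ⊓ stabilizer Co0 x) ≃* S0).trans E⟩

end Cfsg.Agent.HS352
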