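import Cfsg.Agent.Co3Rank.Main

/-!
# Words in the Higman–Sims generators acting on all lists
-/

set_option autoImplicit false

namespace Cfsg.Agent.HS352

open Cfsg CfsgLib CfsgLib.Golay MulAction McLSimple HSGraph

/-- The coordinates of a lattice point. -/
def coords (y : leechLattice) : List ℤ := toL (y : GolayPt → ℤ)

theorem coords_injective : Function.Injective coords := by
  intro a b h
  refine Subtype.ext (funext fun p => ?_)
  have := congrArg (fun l => l.getD (idx p) 0) h
  simpa only [coords, getD_toL _ (idx_lt p), pt_idx] using this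

/-- One letter. -/
def step (k : ℕ) (x : List ℤ) : List ℤ :=
  if k < orbGens.length then act (orbGens.getD k []) x else Co3Rank.matAct x

/-- A word. -/
def run : List ℕ → List ℤ → List ℤ
  | [], x => x
  | k :: w, x => step k (run w x)

theorem exists_step (k : ℕ) : ∃ g ∈ Lat.pairStab, ∀ y, coords (g • y) = step k (coords y) := by
  by_cases hk : k < orbGens.length
  · have hA : orbGens.getD k [] ∈ orbGens := by
      rw [List.getD_eq_getElem _ _ hk]; exact List.getElem_mem hk
    obtain ⟨σ, hσ⟩ := exists_gen hA
    have hlen := (gens_ok _ hA).1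
    have ht : Leech.permHom ((σ : M24)⁻¹) ∈ tripleStab := by
      rw [map_inv]; exact inv_mem (tripleEquiv σ).2
    refine ⟨Leech.permHom ((σ : M24)⁻¹), ⟨ht.1.1, ht.2⟩, fun y => ?_⟩
    rw [step, if_pos hk]
    refine List.ext_getElem (by simp [coords, toL, act, -List.getD_eq_getElem?_getD, hlen]) fun i h1 h2 => ?_
    have hi : i < 24 := by simpa [coords, toL] using h1
    have hlt : (orbGens.getD k []).getD i 0 < 24 := hσ i hi ▸ idx_lt _
    have hlhs : (coords (Leech.permHom ((σ : M24)⁻¹) • y))[i]'h1 =
        (y : GolayPt → ℤ) (((σ : M24) : Equiv.Perm GolayPt) (pt i)) := by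
      simp only [coords, toL, List.getElem_map, List.getElem_range, Leech.permHom_apply, Subgroup.coe_inv,
        inv_inv]
    have hrhs : (act (orbGens.getD k []) (coords y))[i]'h2 =
        (coords y).getD ((orbGens.getD k []).getD i 0) 0 := by
      simp only [act, List.getElem_map]
      rw [List.getD_eq_getElem _ _ (show i < (orbGens.getD k []).length by rw [hlen]; exact hi)]
    rw [hlhs, hrhs, coords, getD_toL _ hlt, ← hσ i hi, pt_idx]
  · obtain ⟨m, hm, hmy⟩ := Co3Rank.exists_mat
    exact ⟨m, hm, fun y => by rw [step, if_neg hk]; exact hmy y⟩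

theorem exists_run : ∀ w : List ℕ, ∃ g ∈ Lat.pairStab, ∀ y, coords (g • y) = run w (coords y)
  | [] => ⟨1, one_mem _, fun y => by rw [one_smul]; rfl⟩
  | k :: w => by
    obtain ⟨g, hg, hgy⟩ := exists_run w
    obtain ⟨h, hh, hhy⟩ := exists_step k
    exact ⟨h * g, mul_mem hh hg, fun y => by rw [mul_smul, hhy, hgy]; rfl⟩

end Cfsg.Agent.HS352
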